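import Groth.Agent.Sga3C.GrpIrr
import Mathlib.AlgebraicGeometry.Group.Abelian

/-!
# The two descriptions of abelian varieties

`K514.GI.geometricallyIntegral`: a connected geometrically reduced group scheme locally of finite type over a field
is geometrically integral.
-/

set_option autoImplicit false
universe u

open CategoryTheory Limits MonoidalCategory CartesianMonoidalCategory MonObj GrpObj AlgebraicGeometry

namespace K514.GI

/-- A connected geometrically reduced group scheme locally of finite type over a field is geometrically integral. -/
theorem geometricallyIntegral {k : Type u} [Field k] (A : Over (Spec (CommRingCat.of k))) [GrpObj A]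
    [LocallyOfFiniteType A.hom] [GeometricallyReduced A.hom] [ConnectedSpace A.left] :
    GeometricallyIntegral A.hom := by
  have : GrpObj (Over.mk A.hom) := ‹GrpObj A›
  have : GeometricallyIrreducible A.hom :=
    Groth.Agent.Sga3C.GrpIrr.geometricallyIrreducible_of_connectedSpace A.hom
  exact GeometricallyIntegral.of_geometricallyReduced_of_geometricallyIrreducible A.hom

/-- A proper geometrically integral scheme over a field is connected and geometrically reduced. -/
theorem connectedSpace {k : Type u} [Field k] (A : Over (Spec (CommRingCat.of k))) [GeometricallyIntegral A.hom] :
    ConnectedSpace A.left := by
  have : IsIntegral A.left := GeometricallyIntegral.isIntegral_of_subsingleton A.hom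
  infer_instance

end K514.GI
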