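import Mathlib.AlgebraicGeometry.Geometrically.Integral
import Groth.Agent.CurvesB.HZero

/-!
# Morphisms with finite-type image on schemes with `H⁰ = k`

`K514.Const.eq_const_of_range_subset`: if `p : X ⟶ S` has a section `s` and is surjective on global sections, then a
morphism from `X` whose image lies in an affine open is constant (`f = p ≫ s ≫ f`).
-/

set_option autoImplicit false
universe u

open CategoryTheory Limits AlgebraicGeometry TopologicalSpace

namespace K514.Const

variable {X Y S : Scheme.{u}}

/-- a morphism to an affine scheme from a scheme whose only global functions are constants is constant -/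
theorem eq_const_of_isAffine [IsAffine Y] (p : X ⟶ S) (s : S ⟶ X) (hs : s ≫ p = 𝟙 S)
    (hp : Function.Surjective (p.appTop).hom) (f : X ⟶ Y) : f = p ≫ s ≫ f := by
  apply ext_of_isAffine
  have h1 : s.appTop ≫ p.appTop = 𝟙 Γ(X, ⊤) := by
    have h2 : p.appTop ≫ s.appTop = 𝟙 Γ(S, ⊤) := by
      rw [← Scheme.Hom.comp_appTop, hs]; simp
    ext x
    obtain ⟨t, rfl⟩ := hp x
    have h3 := congrArg (fun φ => p.appTop.hom (φ.hom t)) h2
    simpa using h3
  rw [Scheme.Hom.comp_appTop, Scheme.Hom.comp_appTop, Category.assoc, h1, Category.comp_id]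

/-- a morphism with image in an affine open from a scheme whose only global functions are constants is constant -/
theorem eq_const_of_range_subset (p : X ⟶ S) (s : S ⟶ X) (hs : s ≫ p = 𝟙 S)
    (hp : Function.Surjective (p.appTop).hom) (f : X ⟶ Y) (U : Y.Opens) (hU : IsAffineOpen U)
    (h : Set.range f ⊆ U) : f = p ≫ s ≫ f := by
  have hr : Set.range f ⊆ Set.range U.ι := by simpa using h
  have : IsAffine U := hU
  have h1 := eq_const_of_isAffine p s hs hp (IsOpenImmersion.lift U.ι f hr)
  have h2 := congrArg (· ≫ U.ι) h1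
  simpa using h2

/-- a morphism whose image is a single point, from a scheme whose only global functions are constants, is constant -/
theorem eq_const_of_subsingleton_range [Nonempty X] (p : X ⟶ S) (s : S ⟶ X) (hs : s ≫ p = 𝟙 S)
    (hp : Function.Surjective (p.appTop).hom) (f : X ⟶ Y)
    (h : (Set.range f).Subsingleton) : f = p ≫ s ≫ f := by
  obtain ⟨x⟩ := ‹Nonempty X›
  obtain ⟨U, hU, hxU, -⟩ := exists_isAffineOpen_mem_and_subset (X := Y) (x := f x) (U := ⊤) trivial
  exact eq_const_of_range_subset p s hs hp f U hU (by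
    rintro _ ⟨y, rfl⟩
    rw [h ⟨y, rfl⟩ ⟨x, rfl⟩]; exact hxU)

/-- `h⁰(O_X) = 1` makes `k → Γ(X, O_X)` surjective. -/
theorem surjective_appTop_of_finrank (k : Type u) [Field k] (X : Scheme.{u}) [X.Over (Spec (CommRingCat.of k))]
    (h0 : Module.finrank k (Coh.HH X (Coh.structureModule X) 0) = 1) :
    Function.Surjective ((X ↘ Spec (CommRingCat.of k)).appTop).hom := by
  intro s
  obtain ⟨t, ht⟩ := Groth.Agent.CurvesB.HZero.exists_const k h0 s
  exact ⟨_, ht⟩

/-- `h⁰(O_X) = 1` makes `k → Γ(X, O_X)` bijective. -/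
theorem bijective_appTop_of_finrank (k : Type u) [Field k] (X : Scheme.{u}) [X.Over (Spec (CommRingCat.of k))]
    (h0 : Module.finrank k (Coh.HH X (Coh.structureModule X) 0) = 1) :
    Function.Bijective ((X ↘ Spec (CommRingCat.of k)).appTop).hom := by
  refine ⟨?_, surjective_appTop_of_finrank k X h0⟩
  have := Groth.Agent.CurvesB.HZero.nontrivial_of_h0 k (X := X) h0
  let e : Γ(Spec (CommRingCat.of k), ⊤) ≃+* k :=
    (Scheme.ΓSpecIso (CommRingCat.of k)).commRingCatIsoToRingEquiv
  let φ : k →+* Γ(X, ⊤) := ((X ↘ Spec (CommRingCat.of k)).appTop).hom.comp e.symm.toRingHom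
  have hφ : Function.Injective φ := φ.injective
  intro a b hab
  apply e.injective
  apply hφ
  simpa [φ] using hab

end K514.Const
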