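import Groth.Agent.AbVar.K514.Words
import Mathlib.AlgebraicGeometry.Group.Abelian

/-!
# Universal words

`K514.UWords.U g P w`: `w : P ⟶ B` is a universal word in `g : X ⟶ B` (`P` is a power of `X`).  Every word factors
through a universal word, and the universal words are compatible with monoidal functors.
-/

set_option autoImplicit false
universe v u v' u'

open CategoryTheory MonoidalCategory CartesianMonoidalCategory MonObj GrpObj

namespace K514.UWords

open K514.Words

section cat

variable {C : Type u} [Category.{v} C] [CartesianMonoidalCategory C]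
variable {X B : C} [GrpObj B]

/-- universal words in `g` -/
inductive U (g : X ⟶ B) : ∀ P : C, (P ⟶ B) → Prop
  | one : U g (𝟙_ C) 1
  | gen : U g X g
  | mul {P P' : C} {w : P ⟶ B} {w' : P' ⟶ B} (h : U g P w) (h' : U g P' w') :
      U g (P ⊗ P') ((fst P P' ≫ w) * (snd P P' ≫ w'))
  | inv {P : C} {w : P ⟶ B} (h : U g P w) : U g P w⁻¹

/-- universal words are words -/
lemma U.mem {g : X ⟶ B} {P : C} {w : P ⟶ B} (h : U g P w) : w ∈ W g P := by
  induction h with
  | one => exact one_mem _
  | gen => simpa using mem_of_comp g (𝟙 X)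
  | mul h h' ih ih' => exact mul_mem (comp_mem _ ih) (comp_mem _ ih')
  | inv h ih => exact inv_mem ih

/-- every word factors through a universal word -/
lemma exists_univ {g : X ⟶ B} {Y : C} {b : Y ⟶ B} (hb : b ∈ W g Y) :
    ∃ (P : C) (w : P ⟶ B) (t : Y ⟶ P), U g P w ∧ t ≫ w = b := by
  induction hb using Subgroup.closure_induction with
  | mem x hx =>
    obtain ⟨t, rfl⟩ := hx
    exact ⟨X, g, t, U.gen, rfl⟩
  | one => exact ⟨𝟙_ C, 1, toUnit Y, U.one, comp_one _⟩
  | mul x y _ _ h1 h2 =>
    obtain ⟨P, w, t, hw, rfl⟩ := h1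
    obtain ⟨P', w', t', hw', rfl⟩ := h2
    exact ⟨P ⊗ P', _, lift t t', U.mul hw hw', by rw [comp_mul, lift_fst_assoc, lift_snd_assoc]⟩
  | inv x _ h1 =>
    obtain ⟨P, w, t, hw, rfl⟩ := h1
    exact ⟨P, w⁻¹, t, U.inv hw, by rw [GrpObj.comp_inv]⟩

open scoped CategoryTheory.Obj in
/-- universal words are compatible with monoidal functors -/
lemma exists_map {D : Type u'} [Category.{v'} D] [CartesianMonoidalCategory D] (F : C ⥤ D) [F.Monoidal] {g : X ⟶ B}
    {P : D} {w : P ⟶ F.obj B} (h : U (F.map g) P w) :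
    ∃ (P' : C) (w' : P' ⟶ B) (e : P ⟶ F.obj P'), IsIso e ∧ U g P' w' ∧ w = e ≫ F.map w' := by
  induction h with
  | one => exact ⟨𝟙_ C, 1, (Functor.Monoidal.εIso F).hom, inferInstance, U.one, by rw [Functor.map_one, comp_one]⟩
  | gen => exact ⟨X, g, 𝟙 _, inferInstance, U.gen, (Category.id_comp _).symm⟩
  | @mul P₁ P₂ w₁ w₂ h h' ih ih' =>
    obtain ⟨P, w, e, he, hw, rfl⟩ := ih
    obtain ⟨P', w', e', he', hw', rfl⟩ := ih'
    refine ⟨P ⊗ P', _, (e ⊗ₘ e') ≫ (Functor.Monoidal.μIso F P P').hom, inferInstance, U.mul hw hw', ?_⟩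
    rw [Functor.map_mul, comp_mul, F.map_comp, F.map_comp]
    simp
  | inv h ih =>
    obtain ⟨P, w, e, he, hw, rfl⟩ := ih
    exact ⟨P, w⁻¹, e, he, U.inv hw, by rw [Functor.map_inv', GrpObj.comp_inv]⟩

end cat

section scheme

open AlgebraicGeometry

variable {S : Scheme.{u}} {X B : Over S} [GrpObj B]

/-- the source of a universal word of a proper scheme is proper -/
lemma U.isProper [IsProper X.hom] {g : X ⟶ B} {P : Over S} {w : P ⟶ B} (h : U g P w) : IsProper P.hom := by
  induction h with
  | one => exact inferInstanceAs (IsProper (𝟙 S))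
  | gen => infer_instance
  | mul h h' ih ih' => dsimp; infer_instance
  | inv h ih => exact ih

/-- a generating morphism has a surjective universal word -/
lemma exists_of_gen {g : X ⟶ B} (hg : Gen g) : ∃ (P : Over S) (w : P ⟶ B), U g P w ∧ Surjective w.left := by
  obtain ⟨Y, -, b, hb, hs⟩ := hg
  obtain ⟨P, w, t, hw, rfl⟩ := exists_univ hb
  have : Surjective (t.left ≫ w.left) := by rw [← Over.comp_left]; exact hs
  exact ⟨P, w, hw, Surjective.of_comp t.left w.left⟩

lemma gen_of_univ [IsProper X.hom] {g : X ⟶ B} {P : Over S} {w : P ⟶ B} (h : U g P w) [Surjective w.left] : Gen g :=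
  ⟨P, h.isProper, w, h.mem, inferInstance⟩

end scheme

end K514.UWords
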