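import Groth.Agent.AbVar.K514.GenAlg
import Groth.Agent.AbVar.K514.Const
import Groth.Agent.AbVar.K514.UWords
import Groth.Agent.AbVar.K508.Base

/-!
# The abelian subvariety generated by a morphism, over an algebraically closed field

`K514.GenAlg2.exists_gen`: `k` algebraically closed, `X` proper over `k` with `Γ(X, O) = k`, `x₀` a rational point,
`g : X ⟶ B` a morphism to an abelian variety with `g(x₀) = 0`: there is an abelian subvariety `C` of `B` through which
`g` factors and which is generated by `g`.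
-/

set_option autoImplicit false
universe u

open CategoryTheory Limits MonoidalCategory CartesianMonoidalCategory MonObj GrpObj AlgebraicGeometry

namespace K514.GenAlg2

open Groth.Agent.Books.AlgPts Groth.Agent.Books.AlgPtsGen Groth.Agent.Books.AlgPtsGrp K514.Words K514.GenAlg

/-- a scheme without nontrivial functions is connected -/
theorem preconnectedSpace {k : Type u} [Field k] {X : Scheme.{u}} [Nonempty X] (p : X ⟶ Spec (CommRingCat.of k))
    (hp : Function.Bijective (p.appTop).hom) : PreconnectedSpace X := by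
  have h0 : IsIso p.appTop := (ConcreteCategory.isIso_iff_bijective _).2 hp
  have h1 : IsField Γ(Spec (.of k), ⊤) :=
    MulEquiv.isField (Field.toIsField k) (Scheme.ΓSpecIso (.of k)).commRingCatIsoToRingEquiv.toMulEquiv
  have h2 : IsField Γ(X, ⊤) := MulEquiv.isField h1 (asIso p.appTop).commRingCatIsoToRingEquiv.symm.toMulEquiv
  have := h2.isDomain
  have := Groth.Agent.Books.AntiAffine.connectedSpace_of_isDomain X h2.isDomain
  infer_instance

variable {k : Type u} [Field k] [IsAlgClosed k]

/-- The abelian subvariety generated by a morphism. -/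
theorem exists_gen {X B : Over (Spec (CommRingCat.of k))} [GrpObj B] [IsProper X.hom]
    (hX : Function.Bijective (X.hom.appTop).hom) [IsProper B.hom] [GeometricallyIntegral B.hom]
    (x₀ : 𝟙_ (Over (Spec (CommRingCat.of k))) ⟶ X) (g : X ⟶ B) (hg : x₀ ≫ g = 1) :
    ∃ (C : Over (Spec (CommRingCat.of k))) (_ : GrpObj C) (i : C ⟶ B) (g' : X ⟶ C), IsMonHom i ∧
      IsClosedImmersion i.left ∧ IsIntegral C.left ∧ IsProper C.hom ∧ g' ≫ i = g ∧ Gen g' := by
  obtain ⟨C, _, i, hi, hi', hCi, hCp, ⟨Y, b, y, h1, h2, h3, h4, h5⟩, hmax⟩ := exists_max_word g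
  obtain ⟨Q, _, q, hq, ⟨hq1, hq2, hq3⟩, hker, hQp, -⟩ := K508.Base.exists_quotient B C i
  have hne : Nonempty X.left := ⟨x₀.left (IsLocalRing.closedPoint k)⟩
  have hpre := preconnectedSpace X.hom hX
  have hN : IsNoetherian X.left := by
    have : IsLocallyNoetherian X.left := LocallyOfFiniteType.isLocallyNoetherian X.hom
    have : CompactSpace X.left := QuasiCompact.compactSpace_of_compactSpace X.hom
    exact { }
  -- words through the unit are killed by `q`
  have hkill : ∀ {P : Over (Spec (CommRingCat.of k))} (w : P ⟶ B) (p : 𝟙_ (Over (Spec (CommRingCat.of k))) ⟶ P)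
      [IsProper P.hom] [IsIntegral P.left], w ∈ W g P → p ≫ w = 1 → w ≫ q = 1 := by
    intro P w p _ _ hw hp
    obtain ⟨l, rfl⟩ := exists_lift i w (hmax _ ⟨P, w, p, inferInstance, inferInstance, hw, hp, rfl⟩)
    rw [Category.assoc, hker.w, ← Category.assoc, toUnit_unique (l ≫ toUnit C) (toUnit P)]
    rfl
  -- `g ≫ q` is constant on the irreducible components
  have hcomp : ∀ Z ∈ irreducibleComponents X.left, ∀ x ∈ Z, ∀ y ∈ Z, (g ≫ q).left x = (g ≫ q).left y := by
    intro Z hZ x hx y hy
    obtain ⟨P, j, hj, hPred, hPirr, hPr⟩ :=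
      K528.Irr.exists_irrSub X Z (isClosed_of_mem_irreducibleComponents Z hZ) hZ.1
    have hPp : IsProper P.hom := by rw [← Over.w j]; infer_instance
    have hPi : IsIntegral P.left := isIntegral_of_irreducibleSpace_of_isReduced P.left
    obtain ⟨p, -⟩ := exists_pt_mem (X := P) (U := Set.univ) Set.univ_nonempty isOpen_univ.isLocallyClosed
    have h6 := hkill ((j ≫ g) * (toUnit P ≫ p ≫ j ≫ g)⁻¹) p
      (mul_mem (mem_of_comp g j) (inv_mem (by
        rw [← Category.assoc, ← Category.assoc]; exact mem_of_comp g _))) (by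
        rw [MonObj.comp_mul, GrpObj.comp_inv, ← Category.assoc p (toUnit P), toUnit_unique (p ≫ toUnit P) (𝟙 _),
          Category.id_comp, mul_inv_cancel])
    rw [MonObj.mul_comp, GrpObj.inv_comp, mul_inv_eq_one, Category.assoc] at h6
    rw [← hPr] at hx hy
    obtain ⟨x', rfl⟩ := hx
    obtain ⟨y', rfl⟩ := hy
    have hsub : Subsingleton (𝟙_ (Over (Spec (CommRingCat.of k)))).left :=
      inferInstanceAs (Subsingleton (PrimeSpectrum k))
    have h7 : ∀ z : P.left, (g ≫ q).left (j.left z) = (p ≫ j ≫ g ≫ q).left ((toUnit P).left z) := fun z => by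
      have h8 : j ≫ g ≫ q = toUnit P ≫ p ≫ j ≫ g ≫ q := by simpa only [Category.assoc] using h6
      rw [← Scheme.Hom.comp_apply, ← Over.comp_left, ← Scheme.Hom.comp_apply, ← Over.comp_left]
      exact congrArg (fun f : P ⟶ Q => f.left z) h8
    rw [h7, h7]
    congr 1
    exact hsub.elim _ _
  have hconst := GenTop.eq_of_components (fun x => (g ≫ q).left x) hcomp
  have hgq : g ≫ q = 1 := by
    have hne : Nonempty X.left := ⟨x₀.left (IsLocalRing.closedPoint k)⟩
    have h7 := Const.eq_const_of_subsingleton_range (X := X.left) (Y := Q.left) X.hom x₀.left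
      (Over.w x₀) hX.2 (g ≫ q).left (by
        rintro _ ⟨x, rfl⟩ _ ⟨y, rfl⟩
        exact hconst x y)
    ext1
    rw [h7, ← Over.comp_left, ← Category.assoc, hg, MonObj.one_comp, Hom.one_def, Over.comp_left]
    rfl
  obtain ⟨g', hg'⟩ : ∃ g' : X ⟶ C, g' ≫ i = g :=
    ⟨hker.lift g (toUnit X) hgq, hker.lift_fst _ _ _⟩
  refine ⟨C, ‹_›, i, g', hi, hi', hCi, hCp, hg', ?_⟩
  subst hg'
  obtain ⟨b', hb', rfl⟩ := Words.exists_lift i h3
  refine ⟨Y, h1, b', hb', ⟨fun c => ?_⟩⟩
  have h8 : i.left c ∈ Set.range (b' ≫ i).left := by rw [h5]; exact ⟨c, rfl⟩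
  obtain ⟨z, hz⟩ := h8
  refine ⟨z, i.left.isClosedEmbedding.injective ?_⟩
  rw [← hz, ← Scheme.Hom.comp_apply, ← Over.comp_left]

end K514.GenAlg2
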