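import Groth.Agent.Sga7.H780.RigPicSh

/-!
# The universal rigidified class on a given Picard scheme
-/

set_option autoImplicit false
universe u

open CategoryTheory CategoryTheory.Limits AlgebraicGeometry Opposite

namespace K514.UnivCl

open Groth.Agent Groth.Agent.Grpsch.PicGrp Groth.Agent.Fga.RigGrp Groth.Agent.Pic13.H602.Rig
open Groth.Agent.Ega3A.PicDiv Groth.Agent.Ega3A.PicEtSh Groth.Agent.Ega3A.PicSheaf Groth.Agent.Ega3A.PicLocBase
open Groth.Agent.Sga7.H780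

variable {X S : Scheme.{u}} {f : X ⟶ S} {σ : S ⟶ X} (hσ : σ ≫ f = 𝟙 S)
  (hF : ∀ T : Over S, Function.Bijective (PicF.XTproj f T).appTop) {P : Over S}
  {φ : ∀ T : Over S, PicF.Cl (PicF.XT f T) → (T ⟶ P)}

include hF in
/-- The rigidified class of the identity. -/
theorem exists_class (hφ : PicRel.IsRelPic f P φ) : ∃ ξ ∈ Rg f σ hσ P, φ P (toCl ξ) = 𝟙 P := by
  obtain ⟨E, hE, hη'⟩ := RigPicSh.exists_picSh hσ hF
  obtain ⟨𝒰, c, hc⟩ := exists_local hφ (𝟙 P)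
  obtain ⟨G, η, nat, sheaf, ls, ei⟩ := E
  dsimp only at hE hη'
  subst hE
  have hEs : IsEtSheaf (rigF f σ) := (isEtSheaf_iff _).mp sheaf
  obtain ⟨ξ, hξ, -⟩ := hEs P 𝒰 (fun i => η (c i)) (by
    intro i k W a b hab
    rw [← nat, ← nat, ei, locEq_iff hφ, nat' hφ, nat' hφ, hc, hc, Category.comp_id, Category.comp_id, hab])
  obtain ⟨d, hd, hx⟩ := RigPicSh.exists_rg hσ ξ
  have hηd : η d = ξ := RigPicSh.rcl_ext hσ hF (by rw [hη' P d (η d) HEq.rfl, norm_of_mem f σ hσ hd, hx])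
  refine ⟨d, hd, hom_ext_ecov 𝒰 _ _ fun i => ?_⟩
  rw [← hc i]
  refine (nat' hφ (𝒰.j i) d).symm.trans ?_
  exact (locEq_iff hφ _ _).1 (ei.1 (by rw [nat, hηd]; exact hξ i))

end K514.UnivCl
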