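import Groth.Agent.AbVar.K514.PicConst
import Groth.Agent.AbVar.K514.UnivCl
import Groth.Agent.AbVar.K514.GenAlg2
import Groth.Agent.Fga.PicTanBij
import Groth.Agent.S0353
import Groth.Agent.S2539
import Groth.Agent.S0223

/-!
# Vanishing of `h¹(X, O_X)` when the Albanese variety is trivial
-/

set_option autoImplicit false
set_option maxHeartbeats 400000
universe u

open CategoryTheory Limits MonoidalCategory CartesianMonoidalCategory MonObj GrpObj AlgebraicGeometry

namespace K514.AlbZero

open Groth.Agent Groth.Agent.Grpsch Groth.Agent.Grpsch.PicGrp Groth.Agent.Grpsch.Cube Groth.Agent.Fga.RigGrp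
open Groth.Agent.Pic13.H965.RelGrp K514.RigOver K514.PicConst Groth.Agent.Hensel

/-- The statement of S5687. -/
def HSm : Prop := ∀ {X S : Scheme.{u}} [IsLocallyNoetherian S] (f : X ⟶ S)
    [IsProper f] [Flat f] (P : Over S) [LocallyOfFiniteType P.hom] (_ : PicRel.RepresentedBy f P) (s : S)
    (_ : Subsingleton (Coh.HH (pullback f (S.fromSpecResidueField s)) (Coh.structureModule _) 2)),
    ∃ U : S.Opens, s ∈ U ∧ Smooth ((P.hom ⁻¹ᵁ U).ι ≫ P.hom)

theorem subsingleton_HH {k k' : Type u} [Field k] [Field k'] [Algebra k k'] (X X' : Scheme.{u})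
    [X.Over (Spec (CommRingCat.of k))] [IsProper (X ↘ Spec (CommRingCat.of k))]
    [X'.Over (Spec (CommRingCat.of k'))] (g : X' ⟶ X)
    (hpb : IsPullback g (X' ↘ Spec (CommRingCat.of k')) (X ↘ Spec (CommRingCat.of k))
      (Spec.map (CommRingCat.ofHom (algebraMap k k')))) (i : ℕ)
    (h : Subsingleton (Coh.HH X (Coh.structureModule X) i)) : Subsingleton (Coh.HH X' (Coh.structureModule X') i) := by
  have : CompactSpace X :=
    (quasiCompact_iff_compactSpace (f := X ↘ Spec (CommRingCat.of k))).mp inferInstance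
  have : QuasiSeparatedSpace X :=
    (quasiSeparated_iff_quasiSeparatedSpace (f := X ↘ Spec (CommRingCat.of k))).mp inferInstance
  have := CurvesC.UnitCoh.isQCoh_unit X
  obtain ⟨e⟩ := Groth.Agent.S0034.result k k' X X' g hpb (Coh.structureModule X) i
  have h1 : Subsingleton (TensorProduct k k' (Coh.HH X (Coh.structureModule X) i)) := inferInstance
  exact (e.trans (CurvesA.HHMap.equivOver k' (CurvesA.HHMap.pullbackUnit g) i)).symm.toEquiv.subsingleton

/-- the Picard scheme is smooth when `H² = 0` -/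
theorem smooth_of_subsingleton (HS : HSm.{u}) {k : Type u} [Field k] (X : Scheme.{u})
    [X.Over (Spec (CommRingCat.of k))] [IsProper (X ↘ Spec (CommRingCat.of k))] (P : Over (Spec (CommRingCat.of k)))
    [LocallyOfFiniteType P.hom] (hP : PicRel.RepresentedBy (X ↘ Spec (CommRingCat.of k)) P)
    (h : Subsingleton (Coh.HH X (Coh.structureModule X) 2)) : Smooth P.hom := by
  let S : Scheme.{u} := Spec (CommRingCat.of k)
  let s : S := IsLocalRing.closedPoint k
  let φ : CommRingCat.of k ⟶ S.residueField s := Spec.preimage (S.fromSpecResidueField s)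
  let _ : Algebra k (S.residueField s) := φ.hom.toAlgebra
  have hφ : Spec.map (CommRingCat.ofHom (algebraMap k (S.residueField s))) = S.fromSpecResidueField s :=
    Spec.map_preimage _
  let X' : Scheme.{u} := pullback (X ↘ Spec (CommRingCat.of k)) (S.fromSpecResidueField s)
  let _ : X'.Over (Spec (CommRingCat.of (S.residueField s))) :=
    ⟨pullback.snd (X ↘ Spec (CommRingCat.of k)) (S.fromSpecResidueField s)⟩
  have hpb : IsPullback (pullback.fst (X ↘ Spec (CommRingCat.of k)) (S.fromSpecResidueField s))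
      (X' ↘ Spec (CommRingCat.of (S.residueField s))) (X ↘ Spec (CommRingCat.of k))
      (Spec.map (CommRingCat.ofHom (algebraMap k (S.residueField s)))) := by
    rw [hφ]
    exact IsPullback.of_hasPullback _ _
  have h2 := subsingleton_HH X X' _ hpb 2 h
  have hflat : Flat (X ↘ Spec (CommRingCat.of k)) := Picfga.H0.flat_of_field _
  obtain ⟨U, hs, hU⟩ := HS (X ↘ Spec (CommRingCat.of k)) P hP s h2
  have hU' : U = ⊤ := by
    rw [eq_top_iff]
    intro y _
    have : Subsingleton S := inferInstanceAs (Subsingleton (PrimeSpectrum k))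
    rwa [Subsingleton.elim y s]
  subst hU'
  have hiso : IsIso (P.hom ⁻¹ᵁ (⊤ : (Spec (CommRingCat.of k)).Opens)).ι := 
    inferInstanceAs (IsIso P.left.topIso.hom)
  exact (MorphismProperty.cancel_left_of_respectsIso @Smooth (P.hom ⁻¹ᵁ (⊤ : (Spec (CommRingCat.of k)).Opens)).ι
    P.hom).1 hU

/-- normality of the base changes -/
theorem isNormalScheme_bc {k : Type u} [Field k] (X : Scheme.{u}) (f : X ⟶ Spec (CommRingCat.of k))
    (hgn : ∀ (K : Type u) [Field K] [Algebra k K] [IsAlgClosure k K],
      Pi1.IsNormalScheme (pullback f (Spec.map (CommRingCat.ofHom (algebraMap k K)))))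
    (k' : Type u) [Field k'] [Algebra k k'] (h : Module.Finite k k') :
    Pi1.IsNormalScheme (pullback f (Spec.map (CommRingCat.ofHom (algebraMap k k')))) := by
  let K := AlgebraicClosure k'
  have hK : IsAlgClosure k K := ⟨inferInstance, Algebra.IsAlgebraic.trans k k' K⟩
  have h1 := hgn K
  let b := Spec.map (CommRingCat.ofHom (algebraMap k k'))
  let a := Spec.map (CommRingCat.ofHom (algebraMap k' K))
  have hab : Spec.map (CommRingCat.ofHom (algebraMap k K)) = a ≫ b := by
    rw [← Spec.map_comp, ← CommRingCat.ofHom_comp, ← IsScalarTower.algebraMap_eq]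
  rw [hab] at h1
  let F : pullback f (a ≫ b) ⟶ pullback f b := (pullbackLeftPullbackSndIso f b a).inv ≫ pullback.fst (pullback.snd f b) a
  have ha1 : Flat a := Picfga.H0.flat_of_field _
  have ha2 : Surjective a := by
    refine ⟨fun y => ⟨IsLocalRing.closedPoint K, ?_⟩⟩
    have : Subsingleton (Spec (CommRingCat.of k')) := inferInstanceAs (Subsingleton (PrimeSpectrum k'))
    exact Subsingleton.elim _ _
  have hF1 : Flat F := inferInstance
  have hF2 : Surjective F := inferInstance
  exact Groth.Agent.S2539.result F h1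

/-- The main vanishing. -/
theorem main (HO : HOpen.{u}) (HR : HRed.{u}) (HS : HSm.{u}) (k : Type u) [Field k]
    (X : Scheme.{u}) [X.Over (Spec (CommRingCat.of k))] [IsProper (X ↘ Spec (CommRingCat.of k))]
    (hgn : ∀ (K : Type u) [Field K] [Algebra k K] [IsAlgClosure k K],
      Pi1.IsNormalScheme (pullback (X ↘ Spec (CommRingCat.of k)) (Spec.map (CommRingCat.ofHom (algebraMap k K)))))
    (h0 : Module.finrank k (Coh.HH X (Coh.structureModule X) 0) = 1)
    (x₀ : 𝟙_ (Over (Spec (CommRingCat.of k))) ⟶ Over.mk (X ↘ Spec (CommRingCat.of k)))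
    (halb0 : ∀ (B : Over (Spec (CommRingCat.of k))) [GrpObj B] [IsProper B.hom] [GeometricallyReduced B.hom] [ConnectedSpace ↥B.left]
      (g : Over.mk (X ↘ Spec (CommRingCat.of k)) ⟶ B), x₀ ≫ g = η[B] → g = toUnit (Over.mk (X ↘ Spec (CommRingCat.of k))) ≫ η[B])
    (hadd : Subsingleton (Coh.HH X (Coh.structureModule X) 2) ∨ CharZero k) :
    Module.finrank k (Coh.HH X (Coh.structureModule X) 1) = 0 := by
  let X' : Over (Spec (CommRingCat.of k)) := Over.mk (X ↘ Spec (CommRingCat.of k))
  have hXp : IsProper X'.hom := inferInstanceAs (IsProper (X ↘ Spec (CommRingCat.of k)))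
  have hb := Const.bijective_appTop_of_finrank k X h0
  have hX : IsIso X'.hom.appTop := (ConcreteCategory.isIso_iff_bijective _).2 hb
  have hne : Nonempty X := ⟨x₀.left (IsLocalRing.closedPoint k)⟩
  have hpre := GenAlg2.preconnectedSpace (X ↘ Spec (CommRingCat.of k)) hb
  have hcon : ConnectedSpace X'.left := { toPreconnectedSpace := hpre, toNonempty := hne }
  have hnorm := isNormalScheme_bc X (X ↘ Spec (CommRingCat.of k)) hgn
  have hred : IsReduced X'.left := by
    have h1 : Pi1.IsNormalScheme X := by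
      have h2 := hgn (AlgebraicClosure k)
      have ha1 : Flat (Spec.map (CommRingCat.ofHom (algebraMap k (AlgebraicClosure k)))) := Picfga.H0.flat_of_field _
      have ha2 : Surjective (Spec.map (CommRingCat.ofHom (algebraMap k (AlgebraicClosure k)))) := by
        refine ⟨fun y => ⟨IsLocalRing.closedPoint (AlgebraicClosure k), ?_⟩⟩
        have : Subsingleton (Spec (CommRingCat.of k)) := inferInstanceAs (Subsingleton (PrimeSpectrum k))
        exact Subsingleton.elim _ _
      exact Groth.Agent.S2539.result (pullback.fst (X ↘ Spec (CommRingCat.of k)) _) h2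
    have h2 : ∀ x : X, _root_.IsReduced (X.presheaf.stalk x) := fun x => by
      have := (h1 x).1
      infer_instance
    exact isReduced_of_isReduced_stalk X
  obtain ⟨P, ⟨φ, hP⟩, hPs, hPl⟩ := Groth.Agent.S4289.result k X
  obtain ⟨hGP, hcm, hcm1, -⟩ := exists_grpObj hP
  have hη : cm φ (1 : Pic (PicF.XT (X ↘ Spec (CommRingCat.of k)) (𝟙_ (Over (Spec (CommRingCat.of k)))))) = η[P] := by
    rw [hcm1, Hom.one_def, toUnit_unique (toUnit _) (𝟙 _), Category.id_comp]
  have hPsm : Smooth P.hom := by
    rcases hadd with h | h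
    · exact smooth_of_subsingleton HS X P ⟨φ, hP⟩ h
    · exact Groth.Agent.S0353.result k P
  -- the identity component
  obtain ⟨U, hU, hUp⟩ := HO k X (X ↘ Spec (CommRingCat.of k)) hnorm P φ hP (IsLocalRing.closedPoint k)
  have hU' : (U : Set P.left) = connectedComponent (η[P].left (IsLocalRing.closedPoint k)) := by
    rw [hU, ← hη]
    rfl
  let A : Over (Spec (CommRingCat.of k)) := Over.mk (U.ι ≫ P.hom)
  let j : A ⟶ P := Over.homMk U.ι
  have hAp : IsProper A.hom := hUp
  have hAs : Smooth A.hom := inferInstanceAs (Smooth (U.ι ≫ P.hom))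
  have hAc : ConnectedSpace A.left := by
    have h1 : _root_.IsConnected (U : Set P.left) := by rw [hU']; exact isConnected_connectedComponent
    exact isConnected_iff_connectedSpace.1 h1
  have hcov : ∀ {T : Over (Spec (CommRingCat.of k))} (t : T ⟶ P), Set.range t.left ⊆ (U : Set P.left) →
      ∃ t' : T ⟶ A, t' ≫ j = t := by
    intro T t ht
    have hr : Set.range t.left ⊆ Set.range U.ι := by simpa using ht
    refine ⟨Over.homMk (IsOpenImmersion.lift U.ι t.left hr) ?_, ?_⟩
    · change IsOpenImmersion.lift U.ι t.left hr ≫ U.ι ≫ P.hom = T.hom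
      rw [IsOpenImmersion.lift_fac_assoc, Over.w]
    · ext1
      exact IsOpenImmersion.lift_fac _ _ _
  have hsub : ∀ {T : Over (Spec (CommRingCat.of k))} (t : T ⟶ P) (i : 𝟙_ (Over (Spec (CommRingCat.of k))) ⟶ T),
      i ≫ t = η[P] → Function.Surjective i.left → Set.range t.left ⊆ (U : Set P.left) := by
    rintro T t i hi his _ ⟨y, rfl⟩
    obtain ⟨z, rfl⟩ := his y
    rw [hU', ← Scheme.Hom.comp_apply, ← Over.comp_left, hi]
    have : Subsingleton (𝟙_ (Over (Spec (CommRingCat.of k)))).left := inferInstanceAs (Subsingleton (PrimeSpectrum k))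
    rw [Subsingleton.elim z (IsLocalRing.closedPoint k)]
    exact mem_connectedComponent
  obtain ⟨a₀, ha₀⟩ : ∃ a₀ : 𝟙_ (Over (Spec (CommRingCat.of k))) ⟶ A, a₀ ≫ j = η[P] :=
    hcov η[P] (hsub η[P] (𝟙 _) (Category.id_comp _) (fun y => ⟨y, rfl⟩))
  -- the inclusion of the identity component is constant
  have hF : ∀ T : Over (Spec (CommRingCat.of k)), Function.Bijective (PicF.XTproj (X ↘ Spec (CommRingCat.of k)) T).appTop := by
    intro T
    have hc : CompactSpace X := QuasiCompact.compactSpace_of_compactSpace (X ↘ Spec (CommRingCat.of k))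
    have hq : QuasiSeparatedSpace X :=
      (quasiSeparated_iff_quasiSeparatedSpace (f := X ↘ Spec (CommRingCat.of k))).mp inferInstance
    exact (ConcreteCategory.isIso_iff_bijective _).1 (Picfga.H0.isIso_app (X ↘ Spec (CommRingCat.of k)) hX T ⊤)
  obtain ⟨ξ, hξ, hξ'⟩ := UnivCl.exists_class (σ := x₀.left) (Over.w x₀) hF hP
  let c : Pic (PicF.XT (X ↘ Spec (CommRingCat.of k)) A) := pull (PicF.XTmap (X ↘ Spec (CommRingCat.of k)) j) ξ
  have hcR : c ∈ Rg (X ↘ Spec (CommRingCat.of k)) x₀.left (Over.w x₀) A := pull_mem j hξ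
  have hcj : cm φ c = j := by
    refine (Ega3A.PicLocBase.nat' hP j ξ).trans ?_
    rw [hξ', Category.comp_id]
  have hc1 : (c : Pic (X' ⊗ A).left) = 1 := by
    refine eq_one HR (X := X') x₀ halb0 a₀ c ?_ ?_
    · have h4 := left_secT (X := X') x₀ A
      have h5 : pull (PicF.secT (X ↘ Spec (CommRingCat.of k)) x₀.left (Over.w x₀) A) c = 1 := hcR
      refine Eq.trans ?_ h5
      exact congrArg (fun r => pull r c) h4
    · have h1 : lift (𝟙 X') (toUnit X' ≫ a₀) = (ρ_ X').inv ≫ X' ◁ a₀ := by
        apply CartesianMonoidalCategory.hom_ext <;> simp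
      rw [h1, pl_comp]
      have h2 : pl (X' ◁ a₀) c = 1 := by
        have h3 : (X' ◁ a₀).left = PicF.XTmap (X ↘ Spec (CommRingCat.of k)) a₀ := left_whisker (X := X') a₀
        change pull (X' ◁ a₀).left c = 1
        refine (congrArg (fun r => pull r c) h3).trans ?_
        refine eq_one_of_phi (X := X') hX x₀ φ hP _ (pull_mem a₀ hcR) ?_
        refine (Ega3A.PicLocBase.nat' hP a₀ c).trans ?_
        change a₀ ≫ cm φ c = cm φ 1
        rw [hcj, ha₀, hη]
      rw [h2, map_one]
  have hj : j = 1 := by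
    rw [← hcj, ← hcm1]
    congr 1
  -- tangent vectors
  obtain ⟨E, hE, -⟩ := Fga.PicTanBij.exists_E (k := k) (X := X)
  have hsubs : Subsingleton {a : Pic (PicF.XT (X ↘ Spec (CommRingCat.of k)) (JacTan.T k 1)) //
      pull (PicF.XTmap (X ↘ Spec (CommRingCat.of k)) (JacTan.i k 1)) a = 1} := by
    have key : ∀ a : Pic (PicF.XT (X ↘ Spec (CommRingCat.of k)) (JacTan.T k 1)), pull (PicF.XTmap (X ↘ Spec (CommRingCat.of k)) (JacTan.i k 1)) a = 1 → a = 1 := by
      intro a ha
      have his : Function.Surjective (JacTan.i k 1).left := Fga.PicThick.surjective_specMap_aug k (Fin 1 → k)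
      have hpt : Subsingleton (JacTan.pt k).left := inferInstanceAs (Subsingleton (PrimeSpectrum k))
      have hTs : Subsingleton (JacTan.T k 1).left := his.subsingleton
      have haR : a ∈ Rg (X ↘ Spec (CommRingCat.of k)) x₀.left (Over.w x₀) (JacTan.T k 1) := by
        rw [mem_Rg]
        refine eq_one_of_local ((JacTan.i k 1).left (IsLocalRing.closedPoint k)) (fun V hV => ?_) _
        rw [eq_top_iff]
        intro y _
        rwa [Subsingleton.elim y ((JacTan.i k 1).left (IsLocalRing.closedPoint k))]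
      refine eq_one_of_phi (X := X') hX x₀ φ hP a haR ?_
      change cm φ a = cm φ 1
      have h1 : (JacTan.i k 1) ≫ cm φ a = η[P] := by
        rw [← cm_pu hP, ← hη]
        congr 1
      obtain ⟨t', ht'⟩ := hcov (cm φ a) (hsub (cm φ a) (JacTan.i k 1) h1 his)
      rw [← ht', hj, MonObj.comp_one, hcm1]
    exact ⟨fun a b => Subtype.ext ((key a.1 a.2).trans (key b.1 b.2).symm)⟩
  have h1 : Subsingleton (Fin 1 → Coh.HH X (Coh.structureModule X) 1) := (hE 1).2.subsingleton
  have h2 : Subsingleton (Coh.HH X (Coh.structureModule X) 1) :=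
    ⟨fun a b => congrFun (Subsingleton.elim (fun _ : Fin 1 => a) (fun _ => b)) 0⟩
  exact Module.finrank_zero_of_subsingleton

end K514.AlbZero
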