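import Groth.Agent.AbVar.K514.Words
import Groth.Agent.CycB.FiniteFlat
import Mathlib.AlgebraicGeometry.Morphisms.QuasiFinite
import Mathlib.AlgebraicGeometry.Morphisms.Finite

/-!
# Degrees of isogenies through which a generating morphism factors are bounded

* `K514.Deg.residueDegree_pos`: positivity of the residue degree at a closed point over a field.
* `K514.Deg.exists_bound`.
-/

set_option autoImplicit false
universe u

open CategoryTheory Limits MonoidalCategory CartesianMonoidalCategory MonObj GrpObj AlgebraicGeometry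

namespace K514.Deg

open K514.Words Groth.Agent.CycB

theorem residueDegree_pos {K : CommRingCat.{u}} (hK : IsField K) {X : Scheme.{u}} (f : X ⟶ Spec K)
    [LocallyOfFiniteType f] (x : X) (hx : IsClosed {x}) : 0 < f.residueDegree x := by
  let := hK.toField
  have hJ : JacobsonSpace (Spec K) :=
    (PrimeSpectrum.isJacobsonRing_iff_jacobsonSpace (R := K)).1 inferInstance
  have h1 := isClosed_singleton_iff_isClosedImmersion.mp hx
  have h2 : IsFinite (X.fromSpecResidueField x ≫ f) :=
    (isFinite_iff_locallyOfFiniteType_of_jacobsonSpace (f := X.fromSpecResidueField x ≫ f)).mpr inferInstance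
  rw [← Scheme.Hom.SpecMap_residueFieldMap_fromSpecResidueField] at h2
  have h3 : IsFinite (Spec.map (f.residueFieldMap x)) := IsFinite.of_comp _ ((Spec K).fromSpecResidueField (f x))
  rw [IsFinite.SpecMap_iff] at h3
  unfold Scheme.Hom.residueDegree
  let := (f.residueFieldMap x).hom.toAlgebra
  have h4 : Module.Finite ((Spec K).residueField (f x)) (X.residueField x) := h3
  exact Module.finrank_pos

/-- Every point in the image of a morphism of finite type is the image of a point with finite residue degree. -/
theorem exists_residueDegree_pos {X Y : Scheme.{u}} (f : X ⟶ Y) [LocallyOfFiniteType f] [QuasiCompact f] (y : Y)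
    (hy : y ∈ Set.range f) : ∃ x, f x = y ∧ 0 < f.residueDegree x := by
  have hne : Nonempty (f.fiber y) := by
    obtain ⟨x, hx⟩ := hy
    have h1 : x ∈ Set.range (f.fiberι y) := by rw [f.range_fiberι y]; exact hx
    obtain ⟨z, -⟩ := h1
    exact ⟨z⟩
  have hft : LocallyOfFiniteType (f.fiberToSpecResidueField y) :=
    MorphismProperty.pullback_snd (P := @LocallyOfFiniteType) _ _ inferInstance
  obtain ⟨z, hz⟩ : ∃ z : f.fiber y, IsClosed {z} := by
    have hJ : JacobsonSpace (Spec (Y.residueField y)) :=
      (PrimeSpectrum.isJacobsonRing_iff_jacobsonSpace (R := Y.residueField y)).1 inferInstance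
    have := LocallyOfFiniteType.jacobsonSpace (f.fiberToSpecResidueField y)
    obtain ⟨z, -, hz'⟩ := nonempty_inter_closedPoints (X := f.fiber y) Set.univ_nonempty
      isOpen_univ.isLocallyClosed
    exact ⟨z, hz'⟩
  refine ⟨f.fiberι y z, ?_, ?_⟩
  · have : f.fiberι y z ∈ Set.range (f.fiberι y) := ⟨z, rfl⟩
    rw [f.range_fiberι y] at this
    exact this
  · rw [← FiniteFlat.residueDegree_fiber]
    exact residueDegree_pos (Field.toIsField _) _ z hz

/-- The only point of an integral scheme over the generic point, for a quasi-finite dominant morphism. -/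
theorem eq_genericPoint {A A₀ : Scheme.{u}} [IsIntegral A] [IsIntegral A₀] (π : A ⟶ A₀) [LocallyQuasiFinite π]
    (x : A) (hx : π x = genericPoint A₀) : x = genericPoint A := by
  have h1 : genericPoint A ⤳ x := genericPoint_specializes x
  have h2 : π (genericPoint A) = genericPoint A₀ := by
    have h3 : π (genericPoint A) ⤳ genericPoint A₀ := by
      rw [← hx]; exact h1.map π.continuous
    exact (h3.antisymm (genericPoint_specializes _)).eq
  have hd : DiscreteTopology (π ⁻¹' {genericPoint A₀}) := (π.isDiscrete_preimage_singleton (genericPoint A₀)).to_subtype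
  have h4 : (⟨genericPoint A, h2⟩ : π ⁻¹' {genericPoint A₀}) ⤳ ⟨x, hx⟩ := by
    rw [subtype_specializes_iff]
    exact h1
  exact (congrArg Subtype.val h4.eq).symm

/-- Degrees of isogenies through which a generating morphism factors are bounded. -/
theorem exists_bound {S : Scheme.{u}} {X A₀ : Over S} [GrpObj A₀] [IsIntegral A₀.left] [IsSeparated A₀.hom]
    (a₀ : X ⟶ A₀) (h : Gen a₀) :
    ∃ N : ℕ, 0 < N ∧ ∀ (A : Over S) [GrpObj A] [IsIntegral A.left] (a : X ⟶ A) (π : A ⟶ A₀) [IsMonHom π]
      [LocallyQuasiFinite π.left], a ≫ π = a₀ → π.left.residueDegree (genericPoint A.left) ∣ N := by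
  obtain ⟨Y, hY, b₀, hb₀, hs⟩ := h
  have hp : IsProper b₀.left := by
    have : IsProper (b₀.left ≫ A₀.hom) := by rw [Over.w]; infer_instance
    exact .of_comp _ A₀.hom
  obtain ⟨y, hy, hpos⟩ := exists_residueDegree_pos b₀.left (genericPoint A₀.left) (hs.surj _)
  refine ⟨_, hpos, ?_⟩
  intro A _ _ a π _ _ haπ
  subst haπ
  obtain ⟨b', hb', rfl⟩ := exists_lift π hb₀
  have h1 : π.left (b'.left y) = genericPoint A₀.left := by
    rw [← Scheme.Hom.comp_apply, ← Over.comp_left]; exact hy
  have h2 : b'.left y = genericPoint A.left := eq_genericPoint π.left _ h1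
  rw [Over.comp_left, Push.residueDegree_comp, h2]
  exact Dvd.intro _ rfl

end K514.Deg
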