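import Groth.Agent.S3016
import Groth.Agent.Sga7.H758.FieldHom
import Groth.Agent.Grpsch.KerMul
import Groth.Agent.TopDim.K284.Basic
import Groth.Agent.EtpbcA.CdFinDim

/-!
# Surjective homomorphisms of abelian varieties of the same dimension are finite
-/

set_option autoImplicit false
universe u

open CategoryTheory Limits MonoidalCategory CartesianMonoidalCategory MonObj GrpObj AlgebraicGeometry

namespace K514.DimFin

variable {k : Type u} [Field k]

/-- A scheme proper over a field of dimension `≤ 0` is finite. -/
theorem isFinite_of_dim_le_zero {Z : Scheme.{u}} (f : Z ⟶ Spec (CommRingCat.of k)) [IsProper f]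
    (h : topologicalKrullDim Z ≤ 0) : IsFinite f := by
  have hN : IsLocallyNoetherian Z := LocallyOfFiniteType.isLocallyNoetherian f
  have hc : CompactSpace Z := QuasiCompact.compactSpace_of_compactSpace f
  have hNZ : IsNoetherian Z := { }
  have hfin : Finite Z := (K284.TopDim.finite_discrete_of_dim_le_zero h).1
  have hq : LocallyQuasiFinite f := .of_finite_preimage_singleton _ fun y => Set.toFinite _
  exact IsFinite.of_isProper_of_locallyQuasiFinite f

/-- A surjective homomorphism from a proper group scheme to a group scheme of at least the same dimension is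
finite. -/
theorem isFinite_of_surjective {A B : Over (Spec (CommRingCat.of k))} [GrpObj A] [GrpObj B] [IsProper A.hom]
    [IsProper B.hom] (π : A ⟶ B) [IsMonHom π] [Surjective π.left]
    (h : topologicalKrullDim A.left ≤ topologicalKrullDim B.left) : IsFinite π.left := by
  have hp : IsProper π.left := by
    have : IsProper (π.left ≫ B.hom) := by rw [Over.w]; infer_instance
    exact .of_comp _ B.hom
  obtain ⟨-, h1⟩ := Groth.Agent.S3016.result k A B π
  have h2 : Set.range π.left.base = Set.univ := π.left.surjective.range_eq
  rw [h2, IsHomeomorph.topologicalKrullDim_eq _ (Homeomorph.Set.univ B.left).isHomeomorph] at h1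
  set D := topologicalKrullDim ↥(pullback π.left (η[B] : 𝟙_ (Over (Spec (CommRingCat.of k))) ⟶ B).left) with hD
  have h3 : D ≤ 0 := by
    obtain ⟨d, hd⟩ := Groth.Agent.EtpbcA.CdFinDim.exists_dim_le B.hom
    have hne : Nonempty B.left := ⟨η[B].left (IsLocalRing.closedPoint k)⟩
    rw [h1] at h
    by_contra hlt
    rw [not_le] at hlt
    cases hB : topologicalKrullDim B.left with
    | bot =>
      have := K284.TopDim.dim_nonneg (X := B.left)
      rw [hB] at this
      exact absurd this (by simp)
    | coe b =>
      rw [hB] at h hd
      cases hD' : D with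
      | bot => rw [hD'] at hlt; exact absurd hlt (by simp)
      | coe c =>
        rw [hD'] at h hlt
        have h4 : b + c ≤ b := by exact_mod_cast h
        have h5 : b ≤ d := by exact_mod_cast hd
        have h6 : (0 : ℕ∞) < c := by exact_mod_cast hlt
        have hb : b ≠ ⊤ := ne_top_of_le_ne_top (ENat.natCast_ne_top d) h5
        lift b to ℕ using hb
        cases c with
        | top => simp at h4
        | coe c =>
          have h4' : b + c ≤ b := by exact_mod_cast h4
          have h6' : 0 < c := by exact_mod_cast h6
          omega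
  obtain ⟨F, _, i, hi, hF⟩ := Groth.Agent.Grpsch.KerMul.exists_kernel π
  have hpb := Groth.Agent.Sga7.H758.FieldHom.isPullback_left π i hF
  have hFp : IsProper F.hom := by
    exact MorphismProperty.of_isPullback (P := @IsProper) hpb hp
  have hFf : IsFinite F.hom := by
    refine isFinite_of_dim_le_zero F.hom ?_
    have e : F.left ≅ pullback π.left (η[B] : 𝟙_ (Over (Spec (CommRingCat.of k))) ⟶ B).left := hpb.isoPullback
    rw [IsHomeomorph.topologicalKrullDim_eq _ (Scheme.homeoOfIso e).isHomeomorph]
    exact h3
  exact Groth.Agent.Sga7.H758.FieldHom.isFinite_of_isFinite_ker π i hF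

/-- The dimension of the target of a surjective homomorphism is at most the dimension of the source. -/
theorem dim_le_of_surjective {A B : Over (Spec (CommRingCat.of k))} [GrpObj A] [GrpObj B] [IsProper A.hom]
    [IsProper B.hom] (π : A ⟶ B) [IsMonHom π] [Surjective π.left] :
    topologicalKrullDim B.left ≤ topologicalKrullDim A.left := by
  have hp : IsProper π.left := by
    have : IsProper (π.left ≫ B.hom) := by rw [Over.w]; infer_instance
    exact .of_comp _ B.hom
  obtain ⟨-, h1⟩ := Groth.Agent.S3016.result k A B π
  have h2 : Set.range π.left.base = Set.univ := π.left.surjective.range_eq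
  rw [h2, IsHomeomorph.topologicalKrullDim_eq _ (Homeomorph.Set.univ B.left).isHomeomorph] at h1
  have hne : Nonempty ↥(pullback π.left (η[B] : 𝟙_ (Over (Spec (CommRingCat.of k))) ⟶ B).left) := by
    let s : Spec (CommRingCat.of k) ⟶ pullback π.left (η[B] : 𝟙_ (Over (Spec (CommRingCat.of k))) ⟶ B).left :=
      pullback.lift (η[A] : 𝟙_ (Over (Spec (CommRingCat.of k))) ⟶ A).left (𝟙 _) (by
        rw [← Over.comp_left, IsMonHom.one_hom, Category.id_comp])
    exact ⟨s (IsLocalRing.closedPoint k)⟩
  rw [h1]
  have h3 : (0 : WithBot ℕ∞) ≤
      topologicalKrullDim ↥(pullback π.left (η[B] : 𝟙_ (Over (Spec (CommRingCat.of k))) ⟶ B).left) :=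
    K284.TopDim.dim_nonneg
  calc topologicalKrullDim B.left = topologicalKrullDim B.left + 0 := (add_zero _).symm
    _ ≤ _ := by gcongr

end K514.DimFin
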