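import Mathlib.CategoryTheory.Monoidal.Cartesian.Grp
import Mathlib.Algebra.Group.Subgroup.Lattice
import Mathlib.AlgebraicGeometry.Morphisms.Proper
import Mathlib.CategoryTheory.Monoidal.Cartesian.Over

/-!
# Words in the values of a morphism to a group object

`K514.Words.W g Y` is the subgroup of `Y ⟶ B` generated by the `t ≫ g`, `t : Y ⟶ X`, for `g : X ⟶ B` a morphism to a
group object.  `K514.Words.Gen g`: some proper `Y` has a surjective word `Y ⟶ B` (the morphism `g` generates `B`).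
-/

set_option autoImplicit false
universe v u v' u'

open CategoryTheory MonoidalCategory CartesianMonoidalCategory MonObj GrpObj

namespace K514.Words

section cat

variable {C : Type u} [Category.{v} C] [CartesianMonoidalCategory C]
variable {X B : C} [GrpObj B]

/-- words in the values of `g` -/
def W (g : X ⟶ B) (Y : C) : Subgroup (Y ⟶ B) := Subgroup.closure {c | ∃ t : Y ⟶ X, c = t ≫ g}

lemma mem_of_comp (g : X ⟶ B) {Y : C} (t : Y ⟶ X) : t ≫ g ∈ W g Y := Subgroup.subset_closure ⟨t, rfl⟩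

/-- words can be pulled back -/
lemma comp_mem {g : X ⟶ B} {Y Y' : C} (s : Y' ⟶ Y) {b : Y ⟶ B} (hb : b ∈ W g Y) : s ≫ b ∈ W g Y' := by
  induction hb using Subgroup.closure_induction with
  | mem x hx =>
    obtain ⟨t, rfl⟩ := hx
    rw [← Category.assoc]; exact mem_of_comp g _
  | one => rw [comp_one]; exact one_mem _
  | mul x y _ _ h1 h2 => rw [comp_mul]; exact mul_mem h1 h2
  | inv x _ h1 => rw [GrpObj.comp_inv]; exact inv_mem h1

/-- the image of a word under a homomorphism is a word -/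
lemma mem_comp_hom {g : X ⟶ B} {B' : C} [GrpObj B'] (h : B ⟶ B') [IsMonHom h] {Y : C} {b : Y ⟶ B}
    (hb : b ∈ W g Y) : b ≫ h ∈ W (g ≫ h) Y := by
  induction hb using Subgroup.closure_induction with
  | mem x hx =>
    obtain ⟨t, rfl⟩ := hx
    rw [Category.assoc]; exact mem_of_comp _ _
  | one => rw [MonObj.one_comp]; exact one_mem _
  | mul x y _ _ h1 h2 => rw [MonObj.mul_comp]; exact mul_mem h1 h2
  | inv x _ h1 => rw [GrpObj.inv_comp]; exact inv_mem h1

/-- words lift along homomorphisms -/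
lemma exists_lift {B' : C} [GrpObj B'] {g' : X ⟶ B'} (h : B' ⟶ B) [IsMonHom h] {Y : C} {b : Y ⟶ B}
    (hb : b ∈ W (g' ≫ h) Y) : ∃ b' ∈ W g' Y, b' ≫ h = b := by
  induction hb using Subgroup.closure_induction with
  | mem x hx =>
    obtain ⟨t, rfl⟩ := hx
    exact ⟨t ≫ g', mem_of_comp _ _, Category.assoc _ _ _⟩
  | one => exact ⟨1, one_mem _, MonObj.one_comp _⟩
  | mul x y _ _ h1 h2 =>
    obtain ⟨x', hx', rfl⟩ := h1
    obtain ⟨y', hy', rfl⟩ := h2
    exact ⟨x' * y', mul_mem hx' hy', MonObj.mul_comp _ _ _⟩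
  | inv x _ h1 =>
    obtain ⟨x', hx', rfl⟩ := h1
    exact ⟨x'⁻¹, inv_mem hx', GrpObj.inv_comp _ _⟩

/-- homomorphisms agreeing on `g` agree on words -/
lemma comp_eq_of_mem {g : X ⟶ B} {B' : C} [GrpObj B'] {h h' : B ⟶ B'} [IsMonHom h] [IsMonHom h']
    (e : g ≫ h = g ≫ h') {Y : C} {b : Y ⟶ B} (hb : b ∈ W g Y) : b ≫ h = b ≫ h' := by
  induction hb using Subgroup.closure_induction with
  | mem x hx =>
    obtain ⟨t, rfl⟩ := hx
    rw [Category.assoc, Category.assoc, e]
  | one => rw [MonObj.one_comp, MonObj.one_comp]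
  | mul x y _ _ h1 h2 => rw [MonObj.mul_comp, MonObj.mul_comp, h1, h2]
  | inv x _ h1 => rw [GrpObj.inv_comp, GrpObj.inv_comp, h1]

open scoped CategoryTheory.Obj in
/-- words and monoidal functors -/
lemma map_mem {D : Type u'} [Category.{v'} D] [CartesianMonoidalCategory D] (F : C ⥤ D) [F.Monoidal] {g : X ⟶ B}
    {Y : C} {b : Y ⟶ B} (hb : b ∈ W g Y) : F.map b ∈ W (F.map g) (F.obj Y) := by
  induction hb using Subgroup.closure_induction with
  | mem x hx =>
    obtain ⟨t, rfl⟩ := hx
    rw [F.map_comp]; exact mem_of_comp _ _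
  | one => rw [Functor.map_one]; exact one_mem _
  | mul x y _ _ h1 h2 => rw [Functor.map_mul]; exact mul_mem h1 h2
  | inv x _ h1 => rw [Functor.map_inv']; exact inv_mem h1

end cat

section scheme

open AlgebraicGeometry

variable {S : Scheme.{u}} {X B : Over S} [GrpObj B]

/-- the morphism `g` generates the group scheme `B` -/
def Gen (g : X ⟶ B) : Prop :=
  ∃ (Y : Over S) (_ : IsProper Y.hom) (b : Y ⟶ B), b ∈ W g Y ∧ Surjective b.left

/-- the image of a generating morphism under a surjective homomorphism is generating -/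
lemma Gen.comp {g : X ⟶ B} (hg : Gen g) {B' : Over S} [GrpObj B'] (h : B ⟶ B') [IsMonHom h] [Surjective h.left] :
    Gen (g ≫ h) := by
  obtain ⟨Y, hY, b, hb, hs⟩ := hg
  exact ⟨Y, hY, b ≫ h, mem_comp_hom h hb, by rw [Over.comp_left]; infer_instance⟩

/-- if `g' ≫ h` generates the target then `h` is surjective -/
lemma Gen.surjective {B' : Over S} [GrpObj B'] {g' : X ⟶ B'} (h : B' ⟶ B) [IsMonHom h] (hg : Gen (g' ≫ h)) :
    Surjective h.left := by
  obtain ⟨Y, hY, b, hb, hs⟩ := hg
  obtain ⟨b', hb', rfl⟩ := exists_lift h hb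
  have : Surjective (b'.left ≫ h.left) := by rw [← Over.comp_left]; exact hs
  exact Surjective.of_comp b'.left h.left

end scheme

end K514.Words
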