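import Groth.Agent.AbVar.K514.Stein
import Groth.Agent.AbVar.K514.Words
import Mathlib.AlgebraicGeometry.Properties

/-!
# A surjective morphism onto a reduced scheme is an epimorphism

* `K514.RedEpi.cancel_left`
* `K514.RedEpi.eq_of_gen`: homomorphisms from a reduced group scheme generated by `g` are determined by their
  composite with `g`.
-/

set_option autoImplicit false
universe u

open CategoryTheory MonoidalCategory CartesianMonoidalCategory MonObj GrpObj AlgebraicGeometry

namespace K514.RedEpi

/-- a surjective morphism onto a reduced scheme is injective on sections -/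
theorem injective_app {X Y : Scheme.{u}} (r : X ⟶ Y) [Surjective r] [IsReduced Y] (U : Y.Opens) :
    Function.Injective (r.app U).hom := by
  rw [injective_iff_map_eq_zero]
  intro f hf
  have h1 : r ⁻¹ᵁ (Y.basicOpen f) = ⊥ := by
    rw [Scheme.preimage_basicOpen, show r.app U f = 0 from hf, Scheme.basicOpen_zero]
  have h2 : Y.basicOpen f = ⊥ := by
    ext y
    obtain ⟨x, rfl⟩ := r.surjective y
    have h3 : x ∈ (r ⁻¹ᵁ (Y.basicOpen f) : X.Opens) ↔ x ∈ (⊥ : X.Opens) := by rw [h1]
    exact h3
  exact (basicOpen_eq_bot_iff f).1 h2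

/-- A surjective morphism onto a reduced scheme is an epimorphism. -/
theorem cancel_left {X Y Z : Scheme.{u}} (r : X ⟶ Y) [Surjective r] [IsReduced Y] {a b : Y ⟶ Z}
    (h : r ≫ a = r ≫ b) : a = b :=
  Stein.cancel_left r (injective_app r) h

/-- Homomorphisms from a reduced group scheme generated by `g` are determined by their composite with `g`. -/
theorem eq_of_gen {S : Scheme.{u}} {X B B' : Over S} [GrpObj B] [GrpObj B'] [IsReduced B.left] {g : X ⟶ B}
    (hg : Words.Gen g) (h h' : B ⟶ B') [IsMonHom h] [IsMonHom h'] (e : g ≫ h = g ≫ h') : h = h' := by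
  obtain ⟨Y, -, b, hb, hs⟩ := hg
  have h1 := Words.comp_eq_of_mem e hb
  ext1
  refine cancel_left b.left ?_
  rw [← Over.comp_left, ← Over.comp_left, h1]

end K514.RedEpi
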