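import Groth.Agent.AbVar.K514.GenDesc
import Groth.Agent.AbVar.K514.RedEpi
import Groth.Agent.AbVar.K514.Deg
import Groth.Agent.AbVar.K514.DimFin
import Groth.Agent.AbVar.K520.Prod
import Groth.Agent.VarietyA.RegSmoothSch
import Groth.Agent.S0558
import Groth.Agent.CurvesC.RegNormal
import Groth.Agent.S17377

/-!
# The Albanese variety of a proper scheme without nontrivial functions

`K514.Albanese.exists_albanese`: existence, given a bound for the dimensions of the abelian varieties generated by a
pointed morphism from `X`.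
-/

set_option autoImplicit false
set_option maxHeartbeats 400000
universe u

open CategoryTheory Limits MonoidalCategory CartesianMonoidalCategory MonObj GrpObj AlgebraicGeometry

namespace K514.Albanese

open K514.Words

variable {k : Type u} [Field k]

theorem isNormalScheme_av (A : Over (Spec (CommRingCat.of k))) [GrpObj A] [IsProper A.hom]
    [GeometricallyIntegral A.hom] : Pi1.IsNormalScheme A.left := by
  have h1 : Smooth A.hom := by
    have hA : GrpObj (Over.mk A.hom) := inferInstanceAs (GrpObj A)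
    exact smooth_of_grpObj A.hom
  intro x
  have : IsRegularLocalRing (A.left.presheaf.stalk x) :=
    Groth.Agent.VarietyA.RegSmoothSch.isRegularLocalRing_stalk_of_mem_smoothLocus A.hom x
      (by rw [A.hom.smoothLocus_eq_top]; trivial)
  exact ⟨Groth.Agent.S0558.result _, Groth.Agent.CurvesC.RegNormal.isIntegrallyClosed _⟩

/-- `(A, a)` is a generating pointed morphism to an abelian variety -/
structure Cand (X : Over (Spec (CommRingCat.of k))) (x₀ : 𝟙_ (Over (Spec (CommRingCat.of k))) ⟶ X) where
  A : Over (Spec (CommRingCat.of k))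
  grp : GrpObj A
  proper : IsProper A.hom
  geom : GeometricallyIntegral A.hom
  a : X ⟶ A
  pt : x₀ ≫ a = 1
  gen : Gen a

attribute [instance] Cand.grp Cand.proper Cand.geom

/-- the dimension as a natural number -/
theorem exists_dim_eq (A : Over (Spec (CommRingCat.of k))) [GrpObj A] [IsProper A.hom] :
    ∃ d : ℕ, topologicalKrullDim A.left = d := by
  obtain ⟨d, hd⟩ := Groth.Agent.EtpbcA.CdFinDim.exists_dim_le A.hom
  have hne : Nonempty A.left := ⟨η[A].left (IsLocalRing.closedPoint k)⟩
  cases hB : topologicalKrullDim A.left with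
  | bot =>
    have := K284.TopDim.dim_nonneg (X := A.left)
    rw [hB] at this
    exact absurd this (by simp)
  | coe b =>
    rw [hB] at hd
    have h5 : b ≤ d := by exact_mod_cast hd
    have hb : b ≠ ⊤ := ne_top_of_le_ne_top (ENat.natCast_ne_top d) h5
    lift b to ℕ using hb
    exact ⟨b, rfl⟩

variable {X : Over (Spec (CommRingCat.of k))} [IsProper X.hom] (hX : Function.Bijective (X.hom.appTop).hom)
  {x₀ : 𝟙_ (Over (Spec (CommRingCat.of k))) ⟶ X}

include hX in
/-- the candidate generated by a pointed morphism -/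
theorem exists_cand {B : Over (Spec (CommRingCat.of k))} [GrpObj B] [IsProper B.hom] [GeometricallyIntegral B.hom]
    (g : X ⟶ B) (hg : x₀ ≫ g = 1) :
    ∃ (C : Cand X x₀) (i : C.A ⟶ B), IsMonHom i ∧ C.a ≫ i = g := by
  obtain ⟨C, hC, i, g', hi, hi', hCp, hCg, hg', hgen⟩ := GenDesc.exists_gen hX x₀ g hg
  have hmono : Mono i := Groth.Agent.Books.AlgPtsGrp.mono_of_isClosedImmersion i
  have h1 : x₀ ≫ g' = 1 := by
    rw [← cancel_mono i, Category.assoc, hg', hg, MonObj.one_comp]
  exact ⟨{ A := C, grp := hC, proper := hCp, geom := hCg, a := g', pt := h1, gen := hgen }, i, hi, hg'⟩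

/-- A candidate mapping onto a candidate of maximal dimension is isogenous to it. -/
theorem isFinite_hom {C C₀ : Cand X x₀} (hmax : topologicalKrullDim C.A.left ≤ topologicalKrullDim C₀.A.left)
    (π : C.A ⟶ C₀.A) [IsMonHom π] (hπ : C.a ≫ π = C₀.a) : Surjective π.left ∧ IsFinite π.left := by
  have h1 : Surjective π.left := Gen.surjective π (by rw [hπ]; exact C₀.gen)
  exact ⟨h1, DimFin.isFinite_of_surjective π hmax⟩

include hX in
/-- Existence of the Albanese variety, given a bound for the dimensions. -/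
theorem exists_albanese (x₀ : 𝟙_ (Over (Spec (CommRingCat.of k))) ⟶ X) (N : ℕ)
    (hN : ∀ C : Cand X x₀, topologicalKrullDim C.A.left ≤ N) :
    ∃ A : Cand X x₀, ∀ (B : Over (Spec (CommRingCat.of k))) [GrpObj B] [IsProper B.hom]
      [GeometricallyIntegral B.hom] (g : X ⟶ B), x₀ ≫ g = 1 → ∃ h : A.A ⟶ B, IsMonHom h ∧ A.a ≫ h = g := by
  classical
  -- a candidate of maximal dimension
  have hne : Nonempty (Cand X x₀) := by
    have h1 : IsProper (𝟙_ (Over (Spec (CommRingCat.of k)))).hom :=
      inferInstanceAs (IsProper (𝟙 (Spec (CommRingCat.of k))))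
    have h2 : GeometricallyIntegral (𝟙_ (Over (Spec (CommRingCat.of k)))).hom := K520.Prod.geometricallyIntegral_unit
    obtain ⟨C, -⟩ := exists_cand hX (x₀ := x₀) (toUnit X) (toUnit_unique _ _)
    exact ⟨C⟩
  let dim : Cand X x₀ → ℕ := fun C => (exists_dim_eq C.A).choose
  have hdim : ∀ C, topologicalKrullDim C.A.left = dim C := fun C => (exists_dim_eq C.A).choose_spec
  obtain ⟨C₀, hC₀⟩ : ∃ C₀ : Cand X x₀, ∀ C, dim C ≤ dim C₀ := by
    have hS : BddAbove (Set.range dim) := ⟨N, by
      rintro _ ⟨C, rfl⟩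
      have := hN C
      rw [hdim] at this
      exact_mod_cast this⟩
    obtain ⟨C₀, h⟩ := Nat.sSup_mem (Set.range_nonempty dim) hS
    exact ⟨C₀, fun C => (le_csSup hS ⟨C, rfl⟩).trans h.ge⟩
  have hC₀i : IsIntegral C₀.A.left := GeometricallyIntegral.isIntegral_of_subsingleton C₀.A.hom
  have hle : ∀ C : Cand X x₀, topologicalKrullDim C.A.left ≤ topologicalKrullDim C₀.A.left := fun C => by
    rw [hdim, hdim]; exact_mod_cast hC₀ C
  -- an isogeny of maximal degree
  obtain ⟨M, hMpos, hM⟩ := Deg.exists_bound C₀.a C₀.gen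
  let T := {p : Σ C : Cand X x₀, (C.A ⟶ C₀.A) // IsMonHom p.2 ∧ p.1.a ≫ p.2 = C₀.a}
  have hint : ∀ C : Cand X x₀, IsIntegral C.A.left := fun C =>
    GeometricallyIntegral.isIntegral_of_subsingleton C.A.hom
  let deg : T → ℕ := fun t =>
    haveI := hint t.1.1
    t.1.2.left.residueDegree (genericPoint t.1.1.A.left)
  have hdvd : ∀ t : T, deg t ∣ M := by
    rintro ⟨⟨C, π⟩, hπ, hπ'⟩
    have := hint C
    have := (isFinite_hom (hle C) π hπ').2
    exact hM C.A C.a π hπ'
  obtain ⟨t₀, ht₀⟩ : ∃ t₀ : T, ∀ t, deg t ≤ deg t₀ := by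
    have hS : BddAbove (Set.range deg) := ⟨M, by
      rintro _ ⟨t, rfl⟩
      exact Nat.le_of_dvd hMpos (hdvd t)⟩
    have hneT : Nonempty T := ⟨⟨⟨C₀, 𝟙 _⟩, inferInstance, Category.comp_id _⟩⟩
    obtain ⟨t₀, h⟩ := Nat.sSup_mem (Set.range_nonempty deg) hS
    exact ⟨t₀, fun t => (le_csSup hS ⟨t, rfl⟩).trans h.ge⟩
  obtain ⟨⟨A, π⟩, hπ, hπ'⟩ := t₀
  have hAi := hint A
  refine ⟨A, fun B _ _ _ g hg => ?_⟩
  have h1 := K520.Prod.isProper_tensor A.A B
  have h2 := K520.Prod.geometricallyIntegral_tensor A.A B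
  obtain ⟨C, i, hi, hiC⟩ := exists_cand hX (x₀ := x₀) (lift A.a g) (by
    rw [comp_lift, A.pt, hg]
    ext <;> simp [Hom.one_def])
  have hCi := hint C
  let p : C.A ⟶ A.A := i ≫ fst A.A B
  have hp : IsMonHom p := inferInstance
  have hpa : C.a ≫ p = A.a := by rw [← Category.assoc, hiC, lift_fst]
  have hCA : topologicalKrullDim C.A.left ≤ topologicalKrullDim A.A.left := by
    obtain ⟨hs, hf⟩ := isFinite_hom (hle A) π hπ'
    exact (hle C).trans (DimFin.dim_le_of_surjective π)
  obtain ⟨hps, hpf⟩ := isFinite_hom hCA p hpa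
  have hgen : p.left (genericPoint C.A.left) = genericPoint A.A.left := by
    have h1 : IsGenericPoint (p.left (genericPoint C.A.left)) (Set.univ : Set A.A.left) := by
      rw [isGenericPoint_def]
      apply Set.eq_univ_of_univ_subset
      rw [← hps.surj.range_eq, ← Set.image_univ, ← (genericPoint_spec C.A.left).def]
      exact image_closure_subset_closure_image p.left.continuous |>.trans (by simp)
    exact h1.eq (genericPoint_spec A.A.left)
  have hdeg : p.left.residueDegree (genericPoint C.A.left) = 1 := by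
    have h3 := ht₀ ⟨⟨C, p ≫ π⟩, inferInstance, by rw [← Category.assoc, hpa, hπ']⟩
    have h4 := hdvd ⟨⟨C, p ≫ π⟩, inferInstance, by rw [← Category.assoc, hpa, hπ']⟩
    have h5 := hdvd ⟨⟨A, π⟩, hπ, hπ'⟩
    change (p ≫ π).left.residueDegree (genericPoint C.A.left) ≤ π.left.residueDegree (genericPoint A.A.left) at h3
    change (p ≫ π).left.residueDegree (genericPoint C.A.left) ∣ M at h4
    change π.left.residueDegree (genericPoint A.A.left) ∣ M at h5
    rw [Over.comp_left, Groth.Agent.CycB.Push.residueDegree_comp, hgen] at h3 h4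
    have h6 := Nat.pos_of_dvd_of_pos h4 hMpos
    have h7 := Nat.pos_of_dvd_of_pos h5 hMpos
    have h8 : 0 < p.left.residueDegree (genericPoint C.A.left) := Nat.pos_of_mul_pos_left h6
    have h9 : p.left.residueDegree (genericPoint C.A.left) ≤ 1 := by
      by_contra h
      rw [not_le] at h
      nlinarith
    omega
  have hiso : IsIso p.left :=
    Groth.Agent.S17377.isIso_of_finite_birational (isNormalScheme_av A.A) p.left hps.surj hdeg
  have hiso' : IsIso p := by
    have h5 : IsIso ((Over.forget _).map p) := hiso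
    exact isIso_of_reflects_iso p (Over.forget _)
  have hinv : IsMonHom (inv p) := by
    have h6 : IsMonHom (asIso p).hom := hp
    have h7 : IsMonHom (asIso p).inv := inferInstance
    exact h7
  refine ⟨inv p ≫ i ≫ snd A.A B, inferInstance, ?_⟩
  rw [← hpa, Category.assoc, IsIso.hom_inv_id_assoc, ← Category.assoc, hiC, lift_snd]

end K514.Albanese
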