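import Groth.Agent.AbVar.K530.RigInj
import Groth.Agent.Picfga.H0
import Groth.Agent.Fga.RigGrp
import Groth.Agent.Grpsch.Cube
import Groth.Prelude.Def_PicRel2

/-!
# Rigidified classes on `X × T` in the monoidal notation
-/

set_option autoImplicit false
universe u

open CategoryTheory Limits MonoidalCategory CartesianMonoidalCategory MonObj GrpObj AlgebraicGeometry

namespace K514.RigOver

open Groth.Agent Groth.Agent.Grpsch Groth.Agent.Grpsch.PicGrp Groth.Agent.Grpsch.Cube Groth.Agent.Fga.RigGrp

variable {k : Type u} [Field k] {X B : Over (Spec (CommRingCat.of k))}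

/-- the section of `X ⊗ T ⟶ T` given by a rational point of `X` -/
lemma left_secT (x₀ : 𝟙_ (Over (Spec (CommRingCat.of k))) ⟶ X) (T : Over (Spec (CommRingCat.of k))) :
    (lift (toUnit T ≫ x₀) (𝟙 T)).left = PicF.secT X.hom x₀.left (Over.w x₀) T := by
  apply pullback.hom_ext
  · rw [secT_fst]
    have h1 : (lift (toUnit T ≫ x₀) (𝟙 T)).left ≫ (fst X T).left = (toUnit T ≫ x₀).left := by
      rw [← Over.comp_left, lift_fst]
    exact h1
  · have h1 : (lift (toUnit T ≫ x₀) (𝟙 T)).left ≫ (snd X T).left = (𝟙 T : T ⟶ T).left := by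
      rw [← Over.comp_left, lift_snd]
    exact h1.trans (secT_XTproj X.hom x₀.left (Over.w x₀) T).symm

lemma left_whisker {T T' : Over (Spec (CommRingCat.of k))} (v : T' ⟶ T) : (X ◁ v).left = PicF.XTmap X.hom v := by
  apply pullback.hom_ext
  · rw [XTmap_fst]
    have h1 : (X ◁ v).left ≫ (fst X T).left = (fst X T').left := by
      rw [← Over.comp_left, whiskerLeft_fst]
    exact h1
  · have h1 : (X ◁ v).left ≫ (snd X T).left = (snd X T').left ≫ v.left := by
      rw [← Over.comp_left, whiskerLeft_snd, Over.comp_left]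
    exact h1.trans (XTmap_XTproj X.hom v).symm

/-- A rigidified class with trivial image in the relative Picard functor is trivial. -/
theorem eq_one_of_phi [IsProper X.hom] (hX : IsIso X.hom.appTop) (x₀ : 𝟙_ (Over (Spec (CommRingCat.of k))) ⟶ X)
    {P : Over (Spec (CommRingCat.of k))} (φ : ∀ T : Over (Spec (CommRingCat.of k)), PicF.Cl (PicF.XT X.hom T) → (T ⟶ P))
    (hP : PicRel.IsRelPic X.hom P φ) {T : Over (Spec (CommRingCat.of k))} (d : Pic (PicF.XT X.hom T))
    (hd : d ∈ Rg X.hom x₀.left (Over.w x₀) T) (h : φ T (toCl d) = φ T (toCl 1)) : d = 1 := by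
  obtain ⟨J, U, hU, hUc⟩ := hP.locallyInjective T (toCl d) (toCl 1) (isInvertibleCl_toCl _) (isInvertibleCl_toCl _) h
  have hN : IsLocallyNoetherian X.left := LocallyOfFiniteType.isLocallyNoetherian X.hom
  have hc : CompactSpace X.left := QuasiCompact.compactSpace_of_compactSpace X.hom
  refine K530.RigInj.eq_of_fppf X.hom (fun T U => ?_) x₀.left (Over.w x₀) T d 1 hd (one_mem _)
    (Presieve.ofArrows (fun i => (U i).left) (fun i => (U i).hom)) ?_ ?_
  · exact (ConcreteCategory.isIso_iff_bijective _).1 (Picfga.H0.isIso_app X.hom hX T U)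
  · refine (Scheme.ofArrows_mem_precoverage_iff (P := @Flat ⊓ @LocallyOfFinitePresentation)).2
      ⟨fun t => ?_, fun i => ⟨?_, ?_⟩⟩
    · obtain ⟨i, y, hy⟩ := hU t
      exact ⟨i, y, hy⟩
    · have : Etale (U i).hom := (U i).prop
      infer_instance
    · have : Etale (U i).hom := (U i).prop
      infer_instance
  · rintro V u ⟨i⟩
    exact hUc i

theorem toCl_one (Y : Scheme.{u}) : toCl (1 : Pic Y) = PicF.cl (Coh.structureModule Y) :=
  (isTrivialCl_toCl_iff 1).2 rfl

end K514.RigOver
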