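import Groth.Agent.CInt.K139.FibDim
import Mathlib.AlgebraicGeometry.Properties
import Mathlib.Order.KrullDimension

/-!
# Local dimension and isolated points of fibres
-/

set_option autoImplicit false
universe u

open CategoryTheory Limits AlgebraicGeometry IsLocalRing

namespace K514.StalkDim

/-- If `x` is not a proper specialization of a point of its fibre then `dim O_x ≤ dim O_{g x}`. -/
theorem dim_stalk_le {X' X : Scheme.{u}} (g : X' ⟶ X) [IsLocallyNoetherian X] [IsLocallyNoetherian X'] (x : X')
    (h : ∀ y : X', y ⤳ x → g y = g x → y = x) :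
    ringKrullDim (X'.presheaf.stalk x) ≤ ringKrullDim (X.presheaf.stalk (g x)) := by
  have h1 := K139.FibDim.dim_stalk_le_add g x
  have h2 : ringKrullDim (CInt.fiberStalk g x) ≤ 0 := by
    rw [CInt.fiberStalk, AlgebraicGeometry.ringKrullDim_stalk_eq_coheight]
    have h3 : Order.coheight (g.asFiber x) = 0 := by
      rw [Order.coheight_eq_zero]
      intro y hy
      have h4 : g.fiberι (g x) y ⤳ x := by
        have h5 : y ⤳ g.asFiber x := hy
        have h6 := h5.map (g.fiberι (g x)).continuous
        rwa [Scheme.Hom.fiberι_asFiber] at h6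
      have h5 : g (g.fiberι (g x) y) = g x := by
        have : g.fiberι (g x) y ∈ Set.range (g.fiberι (g x)) := ⟨y, rfl⟩
        rw [g.range_fiberι] at this
        exact this
      have h6 := h _ h4 h5
      have h7 : y = g.asFiber x := by
        apply (g.fiberι (g x)).isEmbedding.injective
        rw [h6, Scheme.Hom.fiberι_asFiber]
      rw [h7]
    rw [h3]
    rfl
  exact h1.trans ((add_le_add_right h2 _).trans (by rw [add_zero]))

end K514.StalkDim
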