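import Groth.Agent.Sga7.H515.FKSub
import Groth.Agent.S12002
import Groth.Agent.AbVar.K514.RigOver
import Groth.Agent.AbVar.K528.Gen
import Groth.Agent.AbVar.K514.Words
import Groth.Agent.AbVar.K514.StalkDim
import Groth.Agent.Sga5.AmpleFib
import Groth.Agent.AbVar.K514.GI
import Groth.Prelude.Def_PicRel2

/-!
# The dimension of an abelian variety generated by a morphism

`k` algebraically closed, `X` proper over `k` with `Γ(X, O) = k` and `g : X ⟶ B` a pointed morphism generating the
abelian variety `B`.  For an ample class `c` on `B` the morphism `ψ : B ⟶ Pic_X` given by `(g × 1)^* Λ(c)` is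
quasi-finite at `0`.
-/

set_option autoImplicit false
universe u

open CategoryTheory Limits MonoidalCategory CartesianMonoidalCategory MonObj GrpObj AlgebraicGeometry

namespace K514.DimBound

open Groth.Agent Groth.Agent.Grpsch Groth.Agent.Grpsch.PicGrp Groth.Agent.Grpsch.Cube Groth.Agent.Sga7.H515.FKLam
open Groth.Agent.Sga7.H515.FKSub Groth.Agent.Fga.RigGrp Groth.Agent.Books.AlgPts Groth.Agent.Books.AlgPtsGrp
open K514.Words K514.RigOver

section field

variable {k : Type u} [Field k] {X B : Over (Spec (CommRingCat.of k))}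

variable [GrpObj B]

/-- The classes `cl c g v` are rigidified. -/
lemma cl_mem_Rg (c : Pic B.left) (x₀ : 𝟙_ (Over (Spec (CommRingCat.of k))) ⟶ X) {g : X ⟶ B} (hg : x₀ ≫ g = 1)
    {T : Over (Spec (CommRingCat.of k))} (v : T ⟶ B) :
    (cl c g v : Pic (PicF.XT X.hom T)) ∈ Rg X.hom x₀.left (Over.w x₀) T := by
  rw [mem_Rg, ← left_secT]
  have h1 := pl_lift_cl c g v (toUnit T ≫ x₀) (𝟙 T)
  rw [Category.assoc, hg, MonObj.comp_one, lam_one_left] at h1
  exact h1

variable [IsProper B.hom] [GeometricallyIntegral B.hom]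

/-- A class trivial on `g` is trivial on the words in `g`. -/
lemma cl_eq_one_of_mem (c : Pic B.left) {g : X ⟶ B} {T : Over (Spec (CommRingCat.of k))} (x : T ⟶ B)
    (h : cl c g x = 1) {Y : Over (Spec (CommRingCat.of k))} {b : Y ⟶ B} (hb : b ∈ W g Y) : cl c b x = 1 := by
  induction hb using Subgroup.closure_induction with
  | mem b hb =>
    obtain ⟨t, rfl⟩ := hb
    have h1 := pl_cl c g x t (𝟙 T)
    rw [h, map_one, Category.id_comp] at h1
    exact h1.symm
  | one => rw [cl, MonObj.comp_one, lam_one_left]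
  | mul a b _ _ h1 h2 =>
    rw [cl] at h1 h2 ⊢
    rw [MonObj.comp_mul, lam_mul_left, h1, h2, _root_.mul_one]
  | inv a _ h1 =>
    rw [cl] at h1 ⊢
    have h2 := lam_mul_left c (fst Y T ≫ a) (fst Y T ≫ a)⁻¹ (snd Y T ≫ x)
    rw [mul_inv_cancel, lam_one_left, h1, _root_.one_mul] at h2
    rw [GrpObj.comp_inv]
    exact h2.symm

end field

section alg

variable {k : Type u} [Field k] [IsAlgClosed k] {X B : Over (Spec (CommRingCat.of k))} [GrpObj B]

/-- morphisms from a reduced scheme agreeing on rational points are equal -/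
theorem hom_ext_pts {A P : Over (Spec (CommRingCat.of k))} [LocallyOfFiniteType A.hom] [IsReduced A.left]
    [LocallyOfFiniteType P.hom] [IsSeparated P.hom] {f g : A ⟶ P}
    (h : ∀ x : 𝟙_ (Over (Spec (CommRingCat.of k))) ⟶ A, x ≫ f = x ≫ g) : f = g := by
  ext1
  have hw : f.left ≫ P.hom = g.left ≫ P.hom := (Over.w f).trans (Over.w g).symm
  have : LocallyOfFiniteType (f.left ≫ P.hom) := by rw [Over.w]; infer_instance
  refine ext_of_apply_eq P.hom Set.univ isOpen_univ.isLocallyClosed dense_univ (fun a _ ha => ?_) hw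
  obtain ⟨x, rfl⟩ := exists_pt a ha
  rw [← pt_comp, ← pt_comp, h x]

variable [IsProper B.hom] [GeometricallyIntegral B.hom]

/-- The fibre of `B ⟶ Pic_X` through `0` contains no positive-dimensional irreducible closed subset through `0`. -/
theorem eq_of_specializes [IsProper X.hom] (hX : IsIso X.hom.appTop)
    (x₀ : 𝟙_ (Over (Spec (CommRingCat.of k))) ⟶ X) {g : X ⟶ B} (hg : x₀ ≫ g = 1) (hgen : Gen g)
    (M : B.left.Modules) (hM : CohB1.IsAmple M)
    {P : Over (Spec (CommRingCat.of k))} [LocallyOfFiniteType P.hom] [IsSeparated P.hom]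
    (φ : ∀ T : Over (Spec (CommRingCat.of k)), PicF.Cl (PicF.XT X.hom T) → (T ⟶ P))
    (hP : PicRel.IsRelPic X.hom P φ) (y : B.left) (hy : y ⤳ pt (1 : 𝟙_ (Over (Spec (CommRingCat.of k))) ⟶ B))
    (hyψ : (φ B (toCl (cl (mk M hM.1) g (𝟙 B) : Pic (PicF.XT X.hom B)))).left y =
      (φ B (toCl (cl (mk M hM.1) g (𝟙 B) : Pic (PicF.XT X.hom B)))).left
        (pt (1 : 𝟙_ (Over (Spec (CommRingCat.of k))) ⟶ B))) :
    y = pt (1 : 𝟙_ (Over (Spec (CommRingCat.of k))) ⟶ B) := by
  set c : Pic B.left := mk M hM.1 with hc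
  set ψ : B ⟶ P := φ B (toCl (cl c g (𝟙 B) : Pic (PicF.XT X.hom B))) with hψ
  -- naturality
  have hnat : ∀ {T : Over (Spec (CommRingCat.of k))} (v : T ⟶ B),
      v ≫ ψ = φ T (toCl (cl c g v : Pic (PicF.XT X.hom T))) := by
    intro T v
    have h1 := hP.natural B T v (toCl (cl c g (𝟙 B) : Pic (PicF.XT X.hom B))) (isInvertibleCl_toCl _)
    rw [← h1, ← toCl_pull]
    congr 2
    have h2 := pl_whisker_cl c g (𝟙 B) v
    rw [Category.comp_id] at h2
    rw [← h2, ← left_whisker]
  have hone : ∀ {T : Over (Spec (CommRingCat.of k))}, (1 : T ⟶ B) ≫ ψ = φ T (toCl 1) := by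
    intro T
    rw [hnat, cl_one]
  -- points of the fibre
  have hpt : ∀ x : 𝟙_ (Over (Spec (CommRingCat.of k))) ⟶ B,
      ψ.left (pt x) = ψ.left (pt (1 : 𝟙_ (Over (Spec (CommRingCat.of k))) ⟶ B)) ↔ cl c g x = 1 := by
    intro x
    constructor
    · intro h
      rw [← pt_comp, ← pt_comp] at h
      have h1 := pt_injective h
      rw [hone, hnat] at h1
      exact eq_one_of_phi hX x₀ φ hP _ (cl_mem_Rg c x₀ hg x) h1
    · intro h
      rw [← pt_comp, ← pt_comp, hone, hnat, h]
  have hBi : IsIntegral B.left := GeometricallyIntegral.isIntegral_of_subsingleton B.hom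
  obtain ⟨Z, _, i, hi, hi', hZi, hVZ, hZ⟩ := K528.Gen.exists_generated B (closure {y}) isClosed_closure
    isIrreducible_singleton.closure (hy.mem_closed isClosed_closure (subset_closure rfl))
  have hZp : IsProper Z.hom := by rw [← Over.w i]; infer_instance
  have hZr := Sga3B.RedIdComp.geometricallyReduced_of_isReduced Z.hom
  have hZg : GeometricallyIntegral Z.hom := GI.geometricallyIntegral Z
  have hcl : IsClosed {ψ.left (pt (1 : 𝟙_ (Over (Spec (CommRingCat.of k))) ⟶ B))} := by
    rw [← pt_comp]; exact isClosed_pt _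
  -- all points of `Z` are in the fibre
  have hZψ : ∀ z : 𝟙_ (Over (Spec (CommRingCat.of k))) ⟶ Z, cl c g (z ≫ i) = 1 := by
    intro z
    have h1 : Subgroup.closure {x : 𝟙_ (Over (Spec (CommRingCat.of k))) ⟶ B | pt x ∈ closure {y}} ≤
        ker c g (𝟙_ (Over (Spec (CommRingCat.of k)))) := by
      rw [Subgroup.closure_le]
      intro x hx
      refine (hpt x).1 ?_
      have h2 : y ⤳ pt x := specializes_iff_mem_closure.2 hx
      have h3 := h2.map ψ.left.continuous
      rw [hyψ] at h3
      exact (h3.mem_closed hcl rfl)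
    exact h1 (hZ z)
  -- the class is trivial on `X × Z`
  have hZ1 : cl c g i = 1 := by
    refine eq_one_of_phi hX x₀ φ hP _ (cl_mem_Rg c x₀ hg i) ?_
    rw [← hnat, ← hone]
    refine hom_ext_pts fun z => ?_
    rw [← Category.assoc, ← Category.assoc, MonObj.comp_one, hnat, hone, hZψ z]
  obtain ⟨Y, hY, b, hb, hbs⟩ := hgen
  have hYZ := cl_eq_one_of_mem c i hZ1 hb
  -- `Z` fixes the restriction of `M`
  have hNa : CohB1.IsAmple ((Scheme.Modules.pullback i.left).obj M) := Sga5.AmpleFib.isAmple_pullback i.left hM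
  have hfin := S12002.result k Z _ hNa
  have hall : ∀ β : 𝟙_ (Over (Spec (CommRingCat.of k))) ⟶ Z,
      Nonempty ((Scheme.Modules.pullback ((𝟙 Z * (toUnit Z ≫ β))).left).obj ((Scheme.Modules.pullback i.left).obj M) ≅
        (Scheme.Modules.pullback i.left).obj M) := by
    intro β
    obtain ⟨y', hy'⟩ := exists_comp_eq_of_pt_mem_range b (β ≫ i) (hbs.surj _)
    have h1 := pl_lift_cl c b i (toUnit Z ≫ y') (𝟙 Z)
    rw [hYZ, map_one, Category.assoc, hy', Category.id_comp, lam] at h1
    have h2 : pl (toUnit Z ≫ β ≫ i) c = 1 := by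
      rw [pl_comp]
      have : pl (β ≫ i) c = 1 := pic_spec_local k _
      rw [this, map_one]
    rw [h2, _root_.one_mul, eq_comm, mul_inv_eq_one] at h1
    have hcomm : IsCommMonObj Z := K528.Irr.isCommMonObj_of_isIntegral Z
    have h3 : (𝟙 Z * (toUnit Z ≫ β)) ≫ i = (toUnit Z ≫ β ≫ i) * i := by
      rw [mul_comm, MonObj.mul_comp, Category.id_comp, Category.assoc]
    have h4 : pl (𝟙 Z * (toUnit Z ≫ β)) (pl i c) = pl i c := by
      rw [← pl_comp, h3, h1]
    rw [hc] at h4
    have h5 : pl i (mk M hM.1) = mk _ hNa.1 := pull_mk i.left hM.1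
    rw [h5] at h4
    have h6 := pull_mk ((𝟙 Z * (toUnit Z ≫ β)) : Z ⟶ Z).left hNa.1
    exact (mk_eq_iff _ _).1 (h6.symm.trans h4)
  have hpts : (Set.univ : Set (𝟙_ (Over (Spec (CommRingCat.of k))) ⟶ Z)).Finite :=
    hfin.subset fun β _ => hall β
  -- so `Z` is a point
  have hJ := LocallyOfFiniteType.jacobsonSpace Z.hom
  have hclf : (closedPoints Z.left).Finite := by
    refine (hpts.image pt).subset fun z hz => ?_
    obtain ⟨β, hβ⟩ := exists_pt z hz
    exact ⟨β, trivial, hβ⟩
  have hclc : IsClosed (closedPoints Z.left) := by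
    rw [← Set.biUnion_of_singleton (closedPoints Z.left)]
    exact hclf.isClosed_biUnion fun z hz => hz
  have hclu : closedPoints Z.left = Set.univ := by
    rw [← hclc.closure_eq, ← Set.univ_inter (closedPoints Z.left)]
    rw [JacobsonSpace.closure_inter_closedPoints_eq_closure isOpen_univ.isLocallyClosed, closure_univ]
  have hsub : ∀ z z' : Z.left, z = z' := by
    have h1 : ∀ z : Z.left, genericPoint Z.left = z := fun z => by
      have h2 : genericPoint Z.left ⤳ z := genericPoint_specializes z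
      have h3 : IsClosed {genericPoint Z.left} := by
        have : genericPoint Z.left ∈ closedPoints Z.left := by rw [hclu]; trivial
        exact this
      exact (h2.mem_closed h3 rfl).symm
    intro z z'
    rw [← h1 z, ← h1 z']
  obtain ⟨z, hz⟩ := hVZ (subset_closure rfl)
  rw [← hz, hsub z (pt (1 : 𝟙_ (Over (Spec (CommRingCat.of k))) ⟶ Z)), ← pt_comp, MonObj.one_comp]

end alg

end K514.DimBound
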