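import Groth.Agent.AbVar.K514.GenAlg2
import Groth.Agent.AbVar.K508.Core
import Groth.Agent.FBase.K106.GeomDesc
import Groth.Agent.Books.AntiAffine
import Groth.Agent.AbVar.K514.GI

/-!
# The abelian subvariety generated by a morphism, over a field

`K514.GenDesc.exists_gen`: `X` proper over a field `k` with `Γ(X, O) = k`, `x₀` a rational point, `g : X ⟶ B` a
morphism to an abelian variety with `g(x₀) = 0`: there is an abelian subvariety `C` of `B` through which `g` factors
and which is generated by `g`.
-/

set_option autoImplicit false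
universe u

open CategoryTheory Limits MonoidalCategory CartesianMonoidalCategory MonObj GrpObj AlgebraicGeometry

namespace K514.GenDesc

open K514.Words K514.UWords Groth.Agent.Books.AlgPtsGrp

variable {k : Type u} [Field k]

/-- the base change of a scheme without nontrivial functions -/
theorem bijective_appTop_bc {X : Over (Spec (CommRingCat.of k))} [IsProper X.hom]
    (hX : Function.Bijective (X.hom.appTop).hom) {K : Type u} [Field K] (f : Spec (CommRingCat.of K) ⟶ Spec (.of k)) :
    Function.Bijective (((Over.pullback f).obj X).hom.appTop).hom := by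
  have h0 : IsIso X.hom.appTop := (ConcreteCategory.isIso_iff_bijective _).2 hX
  have h1 := Groth.Agent.Books.AntiAffine.isIso_snd_appTop X f
  exact (ConcreteCategory.isIso_iff_bijective _).1 h1

/-- surjectivity descends along field extensions -/
theorem surjective_of_bc {X Y : Over (Spec (CommRingCat.of k))} (w : X ⟶ Y) {K : Type u} [Field K]
    (f : Spec (CommRingCat.of K) ⟶ Spec (.of k)) (h : Surjective ((Over.pullback f).map w).left) :
    Surjective w.left := by
  have hs : Surjective f := by
    refine ⟨fun y => ⟨IsLocalRing.closedPoint K, ?_⟩⟩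
    have : Subsingleton (Spec (CommRingCat.of k)) := inferInstanceAs (Subsingleton (PrimeSpectrum k))
    exact Subsingleton.elim _ _
  have h1 : Surjective (pullback.fst Y.hom f) := inferInstance
  have h2 : ((Over.pullback f).map w).left ≫ pullback.fst Y.hom f = pullback.fst X.hom f ≫ w.left :=
    pullback.lift_fst _ _ _
  have h3 : Surjective (pullback.fst X.hom f ≫ w.left) := by
    rw [← h2]
    have := MorphismProperty.comp_mem @Surjective _ _ h h1
    exact this
  exact Surjective.of_comp (pullback.fst X.hom f) w.left

/-- The abelian subvariety generated by a pointed morphism. -/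
theorem exists_gen {X B : Over (Spec (CommRingCat.of k))} [GrpObj B] [IsProper X.hom]
    (hX : Function.Bijective (X.hom.appTop).hom) [IsProper B.hom] [GeometricallyIntegral B.hom]
    (x₀ : 𝟙_ (Over (Spec (CommRingCat.of k))) ⟶ X) (g : X ⟶ B) (hg : x₀ ≫ g = 1) :
    ∃ (C : Over (Spec (CommRingCat.of k))) (_ : GrpObj C) (i : C ⟶ B) (g' : X ⟶ C), IsMonHom i ∧
      IsClosedImmersion i.left ∧ IsProper C.hom ∧ GeometricallyIntegral C.hom ∧ g' ≫ i = g ∧ Gen g' := by
  let K := AlgebraicClosure k
  let e : Spec (CommRingCat.of K) ⟶ Spec (CommRingCat.of k) := AbVar.ext k K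
  have hpX : IsProper (Red.bc e X).hom := inferInstanceAs (IsProper (pullback.snd X.hom e))
  have hpB : IsProper (Red.bc e B).hom := inferInstanceAs (IsProper (pullback.snd B.hom e))
  have hgB : GeometricallyIntegral (Red.bc e B).hom := inferInstanceAs (GeometricallyIntegral (pullback.snd B.hom e))
  let x₁ : 𝟙_ (Over (Spec (CommRingCat.of K))) ⟶ Red.bc e X :=
    (Functor.Monoidal.εIso (Over.pullback e)).hom ≫ (Over.pullback e).map x₀
  have hx₁ : x₁ ≫ (Over.pullback e).map g = 1 := by
    rw [Category.assoc, ← (Over.pullback e).map_comp, hg, Functor.map_one, MonObj.comp_one]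
  obtain ⟨C, _, i, g', hi, hi', hCi, hCp, hg', hgen⟩ :=
    GenAlg2.exists_gen (bijective_appTop_bc hX e) x₁ ((Over.pullback e).map g) hx₁
  obtain ⟨Q, _, q, hq, ⟨hq1, hq2, hq3⟩, hker, hQp, -⟩ := K508.Base.exists_quotient (Red.bc e B) C i
  obtain ⟨H, _, h, hh, hh', hH⟩ := K508.Core.exists_core (k := k) (K := K) B Q q
  obtain ⟨g₀, hg₀⟩ : ∃ g₀ : X ⟶ H, g₀ ≫ h = g := by
    refine (hH X g).2 ?_
    change (Over.pullback e).map g ≫ q = 1
    rw [← hg', Category.assoc, hker.w, ← Category.assoc, toUnit_unique (g' ≫ toUnit C) (toUnit _)]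
    rfl
  have hhq : (Over.pullback e).map h ≫ q = 1 := (hH H h).1 ⟨𝟙 _, Category.id_comp _⟩
  obtain ⟨l, hl⟩ : ∃ l : Red.bc e H ⟶ C, l ≫ i = (Over.pullback e).map h :=
    ⟨hker.lift ((Over.pullback e).map h) (toUnit _) hhq, hker.lift_fst _ _ _⟩
  have hmono : Mono i := mono_of_isClosedImmersion i
  have hlm : IsMonHom l := by
    have hF : IsMonHom (l ≫ i) := by rw [hl]; infer_instance
    constructor
    · rw [← cancel_mono i, Category.assoc, hF.one_hom, IsMonHom.one_hom i]
    · rw [← cancel_mono i, Category.assoc, hF.mul_hom, Category.assoc, IsMonHom.mul_hom i,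
        ← tensorHom_comp_tensorHom_assoc]
  have hlc : IsClosedImmersion l.left := by
    have h1 : IsClosedImmersion (l.left ≫ i.left) := by
      rw [← Over.comp_left, hl]
      have h2 := Groth.Agent.Sga3C.ActBase.isPullback_map_left e h
      exact MorphismProperty.of_isPullback h2.flip inferInstance
    exact IsClosedImmersion.of_comp l.left i.left
  -- the word surjects onto `C`, so `l` is surjective
  have hgl : (Over.pullback e).map g₀ ≫ l = g' := by
    rw [← cancel_mono i, Category.assoc, hl, ← (Over.pullback e).map_comp, hg₀, hg']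
  have hls : Surjective l.left := by
    refine Gen.surjective (g' := (Over.pullback e).map g₀) l ?_
    rw [hgl]; exact hgen
  have hred : IsReduced C.left := inferInstance
  have hliso : IsIso l.left := isIso_of_isClosedImmersion_of_surjective l.left
  have hliso' : IsIso l := by
    have h5 : IsIso ((Over.forget _).map l) := hliso
    exact isIso_of_reflects_iso l (Over.forget _)
  have hHp : IsProper H.hom := by rw [← Over.w h]; infer_instance
  have hCr := Groth.Agent.Sga3B.RedIdComp.geometricallyReduced_of_isReduced C.hom
  have hCg : GeometricallyIntegral C.hom := GI.geometricallyIntegral C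
  have hHg : GeometricallyIntegral H.hom := by
    have h1 : GeometricallyIntegral (pullback.snd H.hom (Spec.map (CommRingCat.ofHom (algebraMap k K)))) := by
      have h2 : l.left ≫ C.hom = (Red.bc e H).hom := Over.w l
      change GeometricallyIntegral (Red.bc e H).hom
      rw [← h2]
      exact (MorphismProperty.cancel_left_of_respectsIso @GeometricallyIntegral l.left C.hom).2 hCg
    exact K106.GeomDesc.geometricallyIntegral_of_pullback_snd H.hom K
  refine ⟨H, ‹_›, h, g₀, hh, hh', hHp, hHg, hg₀, ?_⟩
  -- a surjective word
  obtain ⟨Y, hY, b, hb, hbs⟩ := hgen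
  rw [← hgl] at hb
  obtain ⟨b', hb', rfl⟩ := Words.exists_lift l hb
  have hb's : Surjective b'.left := by
    have h1 : Surjective (b'.left ≫ l.left) := by rw [← Over.comp_left]; exact hbs
    refine ⟨fun z => ?_⟩
    obtain ⟨y, hy⟩ := h1.surj (l.left z)
    refine ⟨y, l.left.isClosedEmbedding.injective ?_⟩
    rw [← hy, Scheme.Hom.comp_apply]
  obtain ⟨P, w, t, hw, rfl⟩ := exists_univ hb'
  obtain ⟨P', w', ε, hε, hw', rfl⟩ := exists_map (Over.pullback e) hw
  have h1 : Surjective ((t ≫ ε).left ≫ ((Over.pullback e).map w').left) := by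
    rw [← Over.comp_left, Category.assoc]; exact hb's
  have h2 : Surjective ((Over.pullback e).map w').left :=
    Surjective.of_comp (t ≫ ε).left ((Over.pullback e).map w').left
  have h3 := surjective_of_bc w' e h2
  exact gen_of_univ hw'

end K514.GenDesc
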