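import Groth.Agent.AbVar.K514.DimBound
import Groth.Agent.Grpsch.MulFin
import Groth.Agent.AbVar.K514.GenDesc
import Groth.Agent.S3228
import Groth.Agent.S0354
import Groth.Agent.S4289
import Groth.Agent.S0223
import Groth.Agent.FBase.K106.Dim

/-!
# `dim B ≤ h¹(X, O_X)` for an abelian variety generated by a morphism from `X`
-/

set_option autoImplicit false
set_option maxHeartbeats 400000
universe u

open CategoryTheory Limits MonoidalCategory CartesianMonoidalCategory MonObj GrpObj AlgebraicGeometry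

namespace K514.DimBound

open Groth.Agent Groth.Agent.Grpsch Groth.Agent.Grpsch.PicGrp Groth.Agent.Grpsch.Cube Groth.Agent.Sga7.H515.FKLam
open Groth.Agent.Sga7.H515.FKSub Groth.Agent.Fga.RigGrp Groth.Agent.Books.AlgPts Groth.Agent.Books.AlgPtsGrp
open K514.Words K514.RigOver




/-- The dimension bound over an algebraically closed field. -/
theorem dim_le_h1_alg {k : Type u} [Field k] [IsAlgClosed k] (X : Scheme.{u}) [X.Over (Spec (CommRingCat.of k))]
    [IsProper (X ↘ Spec (CommRingCat.of k))] (hX : IsIso (X ↘ Spec (CommRingCat.of k)).appTop)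
    (x₀ : 𝟙_ (Over (Spec (CommRingCat.of k))) ⟶ Over.mk (X ↘ Spec (CommRingCat.of k)))
    {B : Over (Spec (CommRingCat.of k))} [GrpObj B] [IsProper B.hom] [GeometricallyIntegral B.hom]
    (g : Over.mk (X ↘ Spec (CommRingCat.of k)) ⟶ B) (hg : x₀ ≫ g = 1) (hgen : Gen g) :
    topologicalKrullDim ↥B.left ≤ (Module.finrank k (Coh.HH X (Coh.structureModule X) 1) : WithBot ℕ∞) := by
  obtain ⟨P, ⟨φ, hP⟩, hPs, hPl⟩ := Groth.Agent.S4289.result k X
  obtain ⟨M, hM, -⟩ := Groth.Agent.Grpsch.MulFin.exists_symm_ample B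
  have : IsProper (Over.mk (X ↘ Spec (CommRingCat.of k))).hom :=
    inferInstanceAs (IsProper (X ↘ Spec (CommRingCat.of k)))
  let ψ : B ⟶ P := φ B (toCl (cl (mk M hM.1) g (𝟙 B) : Pic (PicF.XT (X ↘ Spec (CommRingCat.of k)) B)))
  have hBN : IsLocallyNoetherian B.left := LocallyOfFiniteType.isLocallyNoetherian B.hom
  have hPN : IsLocallyNoetherian P.left := LocallyOfFiniteType.isLocallyNoetherian P.hom
  have h1 := StalkDim.dim_stalk_le ψ.left (pt (1 : 𝟙_ (Over (Spec (CommRingCat.of k))) ⟶ B)) (fun y hy hyψ =>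
    eq_of_specializes (X := Over.mk (X ↘ Spec (CommRingCat.of k))) hX x₀ hg hgen M hM φ hP y hy hyψ)
  have h2 := Groth.Agent.S0354.result k B (pt (1 : 𝟙_ (Over (Spec (CommRingCat.of k))) ⟶ B)) (isClosed_pt _)
  have h3 := Groth.Agent.S3228.result k X P φ hP
  have h4 : ψ.left (pt (1 : 𝟙_ (Over (Spec (CommRingCat.of k))) ⟶ B)) =
      (φ (Over.mk (𝟙 (Spec (CommRingCat.of k))))
        (PicF.cl (Coh.structureModule (PicF.XT (X ↘ Spec (CommRingCat.of k))
          (Over.mk (𝟙 (Spec (CommRingCat.of k)))))))).left.base (IsLocalRing.closedPoint k) := by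
    rw [← pt_comp, ← toCl_one]
    have h5 : (1 : 𝟙_ (Over (Spec (CommRingCat.of k))) ⟶ B) ≫ ψ =
        φ (𝟙_ (Over (Spec (CommRingCat.of k)))) (toCl (1 : Pic (PicF.XT (X ↘ Spec (CommRingCat.of k)) _))) := by
      have h6 := hP.natural B _ (1 : 𝟙_ (Over (Spec (CommRingCat.of k))) ⟶ B)
        (toCl (cl (mk M hM.1) g (𝟙 B) : Pic (PicF.XT (X ↘ Spec (CommRingCat.of k)) B))) (isInvertibleCl_toCl _)
      rw [← h6, ← toCl_pull]
      congr 2
      have h7 := pl_whisker_cl (mk M hM.1) g (𝟙 B) (1 : 𝟙_ (Over (Spec (CommRingCat.of k))) ⟶ B)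
      rw [Category.comp_id, cl_one] at h7
      have h8 := left_whisker (X := Over.mk (X ↘ Spec (CommRingCat.of k))) (1 : 𝟙_ (Over (Spec (CommRingCat.of k))) ⟶ B)
      refine Eq.trans ?_ h7
      exact congrArg (fun r => pull r (cl (mk M hM.1) g (𝟙 B))) h8.symm
    rw [h5]
    rfl
  rw [h2, h4] at h1
  exact h1.trans h3

/-- The dimension bound over any field. -/
theorem dim_le_h1 {k : Type u} [Field k] (X : Scheme.{u}) [X.Over (Spec (CommRingCat.of k))]
    [IsProper (X ↘ Spec (CommRingCat.of k))] (hX : Function.Bijective ((X ↘ Spec (CommRingCat.of k)).appTop).hom)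
    (x₀ : 𝟙_ (Over (Spec (CommRingCat.of k))) ⟶ Over.mk (X ↘ Spec (CommRingCat.of k)))
    {B : Over (Spec (CommRingCat.of k))} [GrpObj B] [IsProper B.hom] [GeometricallyIntegral B.hom]
    (g : Over.mk (X ↘ Spec (CommRingCat.of k)) ⟶ B) (hg : x₀ ≫ g = 1) (hgen : Gen g) :
    topologicalKrullDim ↥B.left ≤ (Module.finrank k (Coh.HH X (Coh.structureModule X) 1) : WithBot ℕ∞) := by
  let K := AlgebraicClosure k
  let e : Spec (CommRingCat.of K) ⟶ Spec (CommRingCat.of k) := Spec.map (CommRingCat.ofHom (algebraMap k K))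
  let X' : Scheme.{u} := pullback (X ↘ Spec (CommRingCat.of k)) e
  let hXo : X'.Over (Spec (CommRingCat.of K)) := ⟨pullback.snd _ _⟩
  have hXp : IsProper (X' ↘ Spec (CommRingCat.of K)) :=
    inferInstanceAs (IsProper (pullback.snd (X ↘ Spec (CommRingCat.of k)) e))
  have hpX : IsProper (Over.mk (X ↘ Spec (CommRingCat.of k))).hom :=
    inferInstanceAs (IsProper (X ↘ Spec (CommRingCat.of k)))
  have hX' : IsIso (X' ↘ Spec (CommRingCat.of K)).appTop :=
    (ConcreteCategory.isIso_iff_bijective _).2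
      (GenDesc.bijective_appTop_bc (X := Over.mk (X ↘ Spec (CommRingCat.of k))) hX e)
  have hpB : IsProper (Red.bc e B).hom := inferInstanceAs (IsProper (pullback.snd B.hom e))
  have hgB : GeometricallyIntegral (Red.bc e B).hom := inferInstanceAs (GeometricallyIntegral (pullback.snd B.hom e))
  let x₁ : 𝟙_ (Over (Spec (CommRingCat.of K))) ⟶ Red.bc e (Over.mk (X ↘ Spec (CommRingCat.of k))) :=
    (Functor.Monoidal.εIso (Over.pullback e)).hom ≫ (Over.pullback e).map x₀
  have hx₁ : x₁ ≫ (Over.pullback e).map g = 1 := by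
    rw [Category.assoc, ← (Over.pullback e).map_comp, hg, Functor.map_one, MonObj.comp_one]
  have hgen' : Gen ((Over.pullback e).map g) := by
    obtain ⟨Y, hY, b, hb, hbs⟩ := hgen
    have hYp : IsProper ((Over.pullback e).obj Y).hom := inferInstanceAs (IsProper (pullback.snd Y.hom e))
    refine ⟨(Over.pullback e).obj Y, hYp, (Over.pullback e).map b, Words.map_mem (Over.pullback e) hb, ?_⟩
    have h2 := Groth.Agent.Sga3C.ActBase.isPullback_map_left e b
    exact MorphismProperty.of_isPullback h2.flip hbs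
  have h1 := dim_le_h1_alg X' hX' x₁ (B := Red.bc e B) ((Over.pullback e).map g) hx₁ hgen'
  have h2 : topologicalKrullDim ↥(Red.bc e B).left = topologicalKrullDim ↥B.left :=
    K106.Dim.topologicalKrullDim_bc_eq B.hom K
  have h3 := Groth.Agent.S0223.finrank_eq k X K X' (pullback.fst _ _) (IsPullback.of_hasPullback _ _) 1
  rw [h2, h3] at h1
  exact h1

end K514.DimBound
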