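import Groth.Agent.AbVar.K514.FinPts
import Groth.Agent.Sga3.H806.ApproxProp
import Groth.Agent.Sga3B.DSPts

/-!
# Rational points of group schemes over the algebraic closure of a finite field have finite order
-/

set_option autoImplicit false
universe u

open CategoryTheory Limits MonoidalCategory CartesianMonoidalCategory MonObj GrpObj AlgebraicGeometry

namespace K514.FinOrd

open Groth.Agent.Sga3B.DSPts

variable {k : Type u} [Field k] (p : ℕ) [Fact p.Prime] [CharP k p]

/-- Over a field of characteristic `p` which is algebraic over its prime field the rational points of a group scheme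
of finite type have finite order. -/
theorem isOfFinOrder (halg : ∀ x : k, ∃ n : ℕ, 0 < n ∧ x ^ (p ^ n) = x)
    (A : Over (Spec (CommRingCat.of k))) [GrpObj A] [LocallyOfFiniteType A.hom] [QuasiCompact A.hom]
    [QuasiSeparated A.hom] (a : 𝟙_ (Over (Spec (CommRingCat.of k))) ⟶ A) : IsOfFinOrder a := by
  obtain ⟨R₀, G, _, hR₀, h1, h2, h3, ⟨e⟩⟩ := Groth.Agent.Sga3.H806.ApproxProp.exists_noetherian A
  let f : Spec (CommRingCat.of k) ⟶ Spec (CommRingCat.of R₀) := Spec.map (CommRingCat.ofHom R₀.val.toRingHom)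
  have hR : Algebra.FiniteType ℤ (CommRingCat.of R₀) := (Subalgebra.fg_iff_finiteType R₀).1 hR₀
  let a' : 𝟙_ (Over (Spec (CommRingCat.of k))) ⟶ Red.bc f G := a ≫ e.inv.hom.hom
  let b : (Over.map f).obj (𝟙_ (Over (Spec (CommRingCat.of k)))) ⟶ G := (bcEquiv f (𝟙_ _) G).symm a'
  obtain ⟨F, _, _, _, j, c, hc⟩ := K514.FinPts.exists_factor p halg G.hom b.left
  let T : Over (Spec (CommRingCat.of R₀)) := Over.mk (c ≫ G.hom)
  let c' : T ⟶ G := Over.homMk c rfl
  let t : (Over.map f).obj (𝟙_ (Over (Spec (CommRingCat.of k)))) ⟶ T := Over.homMk (Spec.map (CommRingCat.ofHom j)) (by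
    show Spec.map (CommRingCat.ofHom j) ≫ c ≫ G.hom = _
    rw [← Category.assoc, hc, Over.w])
  have htc : t ≫ c' = b := by ext1; exact hc
  have hFf : Finite (CommRingCat.of F) := ‹Finite F›
  have hfield : IsField F := Finite.isField_of_domain F
  have hsub : Subsingleton (Spec (CommRingCat.of F)) := by
    let _ := hfield.toField
    exact inferInstanceAs (Subsingleton (PrimeSpectrum F))
  have hne : Nonempty (Spec (CommRingCat.of F)) := inferInstanceAs (Nonempty (PrimeSpectrum F))
  have hfin : Finite (T ⟶ G) := by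
    have h4 := (K514.FinPts.finite_points G.hom (F := CommRingCat.of F) (c ≫ G.hom)).to_subtype
    exact Finite.of_injective (fun g : T ⟶ G => (⟨g.left, Over.w g⟩ :
      {f : Spec (CommRingCat.of F) ⟶ G.left | f ≫ G.hom = c ≫ G.hom})) fun g g' h => by
        ext1; exact congrArg Subtype.val h
  obtain ⟨n, hn, hcn⟩ := isOfFinOrder_iff_pow_eq_one.1 (isOfFinOrder_of_finite c')
  refine isOfFinOrder_iff_pow_eq_one.2 ⟨n, hn, ?_⟩
  have hb : b ^ n = 1 := by rw [← htc, ← MonObj.comp_pow, hcn, MonObj.comp_one]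
  have ha' : a' ^ n = 1 := by
    have : a' = bcEquiv f (𝟙_ _) G b := by simp [b]
    rw [this, ← map_pow, hb, map_one]
  have hmon : IsMonHom e.hom.hom.hom := inferInstance
  have : a = a' ≫ e.hom.hom.hom := by
    simp only [a', Category.assoc]
    have h5 : e.inv.hom.hom ≫ e.hom.hom.hom = 𝟙 A := by
      exact congrArg (fun z : Grp.mk A ⟶ Grp.mk A => z.hom.hom) e.inv_hom_id
    rw [h5, Category.comp_id]
  rw [this, ← MonObj.pow_comp, ha', MonObj.one_comp]

end K514.FinOrd
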