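import Mathlib.AlgebraicGeometry.Morphisms.FiniteType
import Mathlib.AlgebraicGeometry.Morphisms.QuasiCompact
import Mathlib.CategoryTheory.Comma.Over.Basic
import Mathlib.FieldTheory.Finite.Basic

/-!
# Points with values in finite rings, and points over the algebraic closure of a finite field

* `K514.FinPts.finite_points` : a scheme quasi-compact and locally of finite type over an affine scheme has only
  finitely many points with values in a finite ring with one prime ideal.
* `K514.FinPts.finite_range` : the image of a finitely generated ring in a field all of whose elements satisfy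
  `x ^ (p ^ n) = x` for some `n > 0` is finite.
* `K514.FinPts.exists_factor` : a `k`-point of a scheme locally of finite type over a finitely generated ring factors
  through a finite subring of `k`.
-/

set_option autoImplicit false
universe u

open CategoryTheory Limits AlgebraicGeometry TopologicalSpace

namespace K514.FinPts

/-- finitely many algebra homomorphisms from an algebra of finite type to a finite algebra -/
theorem finite_algHom (R B F : Type*) [CommRing R] [CommRing B] [CommRing F] [Algebra R B] [Algebra R F]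
    [Algebra.FiniteType R B] [Finite F] : Finite (B →ₐ[R] F) := by
  obtain ⟨s, hs⟩ := (inferInstance : Algebra.FiniteType R B).out
  refine Finite.of_injective (fun φ : B →ₐ[R] F => fun b : s => φ b.1) fun φ ψ h => ?_
  refine AlgHom.ext_of_adjoin_eq_top hs fun b hb => ?_
  exact congrFun h ⟨b, hb⟩

theorem finite_ringHom {R B F : Type*} [CommRing R] [CommRing B] [CommRing F] (g : R →+* B) (hg : g.FiniteType)
    (t : R →+* F) [Finite F] : {φ : B →+* F | φ.comp g = t}.Finite := by
  algebraize [g, t]
  have := finite_algHom R B F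
  refine (Set.finite_range (fun φ : B →ₐ[R] F => (φ : B →+* F))).subset ?_
  intro φ hφ
  exact ⟨{ φ with commutes' := fun r => congrArg (fun χ => χ r) (show φ.comp g = t from hφ) }, rfl⟩

/-- a morphism from an affine scheme with image in an affine open -/
theorem exists_eq_fromSpec {G : Scheme.{u}} {F : CommRingCat.{u}} (f : Spec F ⟶ G) (U : G.Opens)
    (hU : IsAffineOpen U) (h : Set.range f ⊆ U) : ∃ φ : Γ(G, U) ⟶ F, Spec.map φ ≫ hU.fromSpec = f := by
  refine ⟨Spec.preimage (IsOpenImmersion.lift hU.fromSpec f (by rwa [hU.range_fromSpec])), ?_⟩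
  rw [Spec.map_preimage, IsOpenImmersion.lift_fac]

/-- finitely many points in an affine open -/
theorem finite_points_affine {R F : CommRingCat.{u}} {G : Scheme.{u}} (g : G ⟶ Spec R) [LocallyOfFiniteType g]
    [Finite F] (s : Spec F ⟶ Spec R) (U : G.Opens) (hU : IsAffineOpen U) :
    {f : Spec F ⟶ G | f ≫ g = s ∧ Set.range f ⊆ U}.Finite := by
  let ψ : R ⟶ Γ(G, U) := Spec.preimage (hU.fromSpec ≫ g)
  have hψ : Spec.map ψ = hU.fromSpec ≫ g := Spec.map_preimage _
  have hft : ψ.hom.FiniteType := by
    have : LocallyOfFiniteType (Spec.map ψ) := by rw [hψ]; infer_instance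
    exact (HasRingHomProperty.Spec_iff (P := @LocallyOfFiniteType)).1 this
  have hfin := finite_ringHom ψ.hom hft (Spec.preimage s).hom
  refine (hfin.image (fun φ => Spec.map (CommRingCat.ofHom φ) ≫ hU.fromSpec)).subset ?_
  rintro f ⟨hf1, hf2⟩
  obtain ⟨φ, hφ⟩ := exists_eq_fromSpec f U hU hf2
  refine ⟨φ.hom, ?_, hφ⟩
  have h1 : ψ ≫ φ = Spec.preimage s := by
    apply Spec.map_injective
    rw [Spec.map_preimage, Spec.map_comp, hψ, ← Category.assoc, hφ, hf1]
  exact congrArg CommRingCat.Hom.hom h1

/-- finitely many points with values in a finite ring with exactly one prime ideal -/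
theorem finite_points {R F : CommRingCat.{u}} {G : Scheme.{u}} (g : G ⟶ Spec R) [LocallyOfFiniteType g]
    [QuasiCompact g] [Finite F] [Subsingleton (Spec F)] [hN : Nonempty (Spec F)] (s : Spec F ⟶ Spec R) :
    {f : Spec F ⟶ G | f ≫ g = s}.Finite := by
  have hc : CompactSpace G := QuasiCompact.compactSpace_of_compactSpace g
  obtain ⟨t, ht, htf⟩ : ∃ t : Set (G.affineOpens), t.Finite ∧ (⊤ : G.Opens) = ⨆ U ∈ t, (U : G.Opens) := by
    obtain ⟨t, ht⟩ := (isCompact_univ (X := G)).elim_finite_subcover (fun U : G.affineOpens => (U.1 : Set G))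
      (fun U => U.1.isOpen) (by
        intro x _
        obtain ⟨U, hU, hxU, -⟩ := exists_isAffineOpen_mem_and_subset (X := G) (x := x) (U := ⊤) trivial
        exact Set.mem_iUnion.2 ⟨⟨U, hU⟩, hxU⟩)
    refine ⟨(t : Set G.affineOpens), t.finite_toSet, ?_⟩
    ext x
    simpa using ht (Set.mem_univ x)
  refine (ht.biUnion fun U _ => finite_points_affine g s U.1 U.2).subset ?_
  intro f hf
  obtain ⟨x⟩ := hN
  have hx : f x ∈ (⊤ : G.Opens) := trivial
  rw [htf] at hx
  obtain ⟨U, hU, hxU⟩ : ∃ U ∈ t, f x ∈ (U : G.Opens) := by simpa using hx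
  refine Set.mem_biUnion hU ⟨hf, ?_⟩
  rintro _ ⟨y, rfl⟩
  rw [Subsingleton.elim y x]
  exact hxU

section field

variable {k : Type u} [Field k] (p : ℕ) [Fact p.Prime] [CharP k p]

/-- the elements of `k` fixed by `x ↦ x ^ (p ^ N)` -/
def fixed (N : ℕ) : Subring k where
  carrier := {x | x ^ (p ^ N) = x}
  mul_mem' := by
    intro a b ha hb
    show (a * b) ^ (p ^ N) = a * b
    rw [mul_pow, show a ^ (p ^ N) = a from ha, show b ^ (p ^ N) = b from hb]
  one_mem' := by show (1 : k) ^ (p ^ N) = 1; rw [one_pow]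
  add_mem' := by
    intro a b ha hb
    show (a + b) ^ (p ^ N) = a + b
    rw [add_pow_char_pow, show a ^ (p ^ N) = a from ha, show b ^ (p ^ N) = b from hb]
  zero_mem' := by
    show (0 : k) ^ (p ^ N) = 0
    exact zero_pow (pow_ne_zero _ (Fact.out (p := p.Prime)).ne_zero)
  neg_mem' := by
    intro a ha
    show (-a) ^ (p ^ N) = -a
    have h : (-a) ^ (p ^ N) = - a ^ (p ^ N) := by
      have h1 : (0 : k) = (a + -a) ^ (p ^ N) := by
        rw [add_neg_cancel]; exact (zero_pow (pow_ne_zero _ (Fact.out (p := p.Prime)).ne_zero)).symm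
      rw [add_pow_char_pow] at h1
      exact (neg_eq_of_add_eq_zero_right h1.symm).symm
    rw [h, show a ^ (p ^ N) = a from ha]

lemma mem_fixed {N : ℕ} {x : k} : x ∈ fixed p N ↔ x ^ (p ^ N) = x := Iff.rfl

lemma finite_fixed {N : ℕ} (hN : 0 < N) : ((fixed p N : Subring k) : Set k).Finite := by
  classical
  have hp : 1 < p ^ N := Nat.one_lt_pow hN.ne' (Fact.out (p := p.Prime)).one_lt
  let f : Polynomial k := Polynomial.X ^ (p ^ N) - Polynomial.X
  have hf : f ≠ 0 := FiniteField.X_pow_card_sub_X_ne_zero k hp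
  refine (f.roots.toFinset.finite_toSet).subset ?_
  intro x hx
  have hx' : x ^ (p ^ N) = x := hx
  simp [f, hf, hx', sub_eq_zero]

omit [Fact (Nat.Prime p)] [CharP k p] in
lemma pow_iterate {n : ℕ} {x : k} (h : x ^ (p ^ n) = x) (m : ℕ) : x ^ (p ^ (n * m)) = x := by
  induction m with
  | zero => simp
  | succ m ih => rw [Nat.mul_succ, pow_add, pow_mul, ih, h]

/-- the image of a finitely generated ring in a field algebraic over its prime field is finite -/
theorem finite_range (halg : ∀ x : k, ∃ n : ℕ, 0 < n ∧ x ^ (p ^ n) = x) {B : Type*} [CommRing B]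
    [hB : Algebra.FiniteType ℤ B] (φ : B →+* k) : Finite φ.range := by
  classical
  obtain ⟨s, hs⟩ := hB.out
  choose n hn0 hn using halg
  let N : ℕ := ∏ b ∈ s, n (φ b)
  have hN : 0 < N := Finset.prod_pos fun b _ => hn0 _
  let K : Subalgebra ℤ B := subalgebraOfSubring ((fixed p N).comap φ)
  have hK : K = ⊤ := by
    rw [eq_top_iff, ← hs]
    refine Algebra.adjoin_le fun b hb => ?_
    show φ b ∈ fixed p N
    rw [mem_fixed]
    obtain ⟨m, hm⟩ := Finset.dvd_prod_of_mem (fun b => n (φ b)) hb
    show φ b ^ (p ^ (∏ b ∈ s, n (φ b))) = φ b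
    rw [hm]
    exact pow_iterate p (hn _) m
  refine ((finite_fixed p hN).subset ?_).to_subtype
  rintro _ ⟨b, rfl⟩
  have : b ∈ K := by rw [hK]; trivial
  exact this

/-- A `k`-point of a scheme of finite type over `ℤ` factors through a finite subring of `k` -/
theorem exists_factor (halg : ∀ x : k, ∃ n : ℕ, 0 < n ∧ x ^ (p ^ n) = x) {R : CommRingCat.{u}}
    [hR : Algebra.FiniteType ℤ R] {G : Scheme.{u}} (g : G ⟶ Spec R) [LocallyOfFiniteType g]
    (f : Spec (CommRingCat.of k) ⟶ G) :
    ∃ (F : Type u) (_ : CommRing F) (_ : IsDomain F) (_ : Finite F) (ι : F →+* k)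
      (b : Spec (CommRingCat.of F) ⟶ G), Spec.map (CommRingCat.ofHom ι) ≫ b = f := by
  obtain ⟨U, hU, hxU, -⟩ := exists_isAffineOpen_mem_and_subset (X := G)
    (x := f (IsLocalRing.closedPoint k)) (U := ⊤) trivial
  have hs : Subsingleton (Spec (CommRingCat.of k)) := inferInstanceAs (Subsingleton (PrimeSpectrum k))
  obtain ⟨φ, hφ⟩ := exists_eq_fromSpec f U hU (by
    rintro _ ⟨y, rfl⟩
    rw [Subsingleton.elim y (IsLocalRing.closedPoint k)]
    exact hxU)
  let ψ : R ⟶ Γ(G, U) := Spec.preimage (hU.fromSpec ≫ g)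
  have hψ : Spec.map ψ = hU.fromSpec ≫ g := Spec.map_preimage _
  have hft : ψ.hom.FiniteType := by
    have : LocallyOfFiniteType (Spec.map ψ) := by rw [hψ]; infer_instance
    exact (HasRingHomProperty.Spec_iff (P := @LocallyOfFiniteType)).1 this
  have hB : Algebra.FiniteType ℤ Γ(G, U) := by
    algebraize [ψ.hom]
    exact Algebra.FiniteType.trans (R := ℤ) (S := R) (A := Γ(G, U)) hR inferInstance
  have hfin := finite_range p halg φ.hom
  refine ⟨φ.hom.range, inferInstance, inferInstance, hfin, φ.hom.range.subtype,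
    Spec.map (CommRingCat.ofHom φ.hom.rangeRestrict) ≫ hU.fromSpec, ?_⟩
  rw [← hφ, ← Category.assoc, ← Spec.map_comp]
  rfl

end field

end K514.FinPts
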