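import Mathlib.CategoryTheory.Monoidal.Cartesian.Grp
import Mathlib.CategoryTheory.Monoidal.Cartesian.CommGrp_

/-!
# Formal lemmas on pointed universal morphisms into group objects

Everything here takes place in a cartesian monoidal category; `Univ P x₀ alb` says that `alb : X ⟶ A` is universal
among the morphisms from `X` into the group objects satisfying `P` which send `x₀` to the unit.
-/

set_option autoImplicit false
universe v u

open CategoryTheory MonoidalCategory CartesianMonoidalCategory MonObj GrpObj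

namespace K514.Formal

variable {C : Type u} [Category.{v} C] [CartesianMonoidalCategory C]

/-- the constant morphism `X ⟶ A` with value `a` is compatible with everything -/
lemma toUnit_comp_const {X Y Z : C} (f : X ⟶ Y) (a : 𝟙_ C ⟶ Z) : f ≫ toUnit Y ≫ a = toUnit X ≫ a := by
  rw [← Category.assoc]; congr 1; exact toUnit_unique _ _

lemma pt_toUnit {X Z : C} (x : 𝟙_ C ⟶ X) (a : 𝟙_ C ⟶ Z) : x ≫ toUnit X ≫ a = a := by
  rw [← Category.assoc, toUnit_unique (x ≫ toUnit X) (𝟙 _), Category.id_comp]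

/-- Translating a pointed factorisation: if `h` is a homomorphism with `alb ≫ h = g * (const g(x₀))⁻¹` and
`g (x₁) = 1`, then `(alb * (const alb(x₁))⁻¹) ≫ h = g`. -/
theorem change_basepoint {X A B : C} [GrpObj A] [GrpObj B] (x₀ x₁ : 𝟙_ C ⟶ X) (alb : X ⟶ A)
    (g : X ⟶ B) (hg : x₁ ≫ g = η[B]) (h : A ⟶ B) [IsMonHom h]
    (hh : alb ≫ h = g * (toUnit X ≫ x₀ ≫ g)⁻¹) :
    (alb * (toUnit X ≫ x₁ ≫ alb)⁻¹) ≫ h = g := by
  have h1 : x₁ ≫ alb ≫ h = (x₀ ≫ g)⁻¹ := by
    rw [hh, comp_mul, GrpObj.comp_inv, hg, pt_toUnit, one_eq_one, _root_.one_mul]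
  rw [MonObj.mul_comp, GrpObj.inv_comp, hh, Category.assoc, Category.assoc, h1, GrpObj.comp_inv, _root_.inv_inv,
    inv_mul_cancel_right]

/-- the converse of `change_basepoint` -/
theorem change_basepoint_symm {X A B : C} [GrpObj A] [GrpObj B] (x₀ x₁ : 𝟙_ C ⟶ X) (alb : X ⟶ A)
    (halb : x₀ ≫ alb = η[A]) (g : X ⟶ B) (h : A ⟶ B) [IsMonHom h]
    (hh : (alb * (toUnit X ≫ x₁ ≫ alb)⁻¹) ≫ h = g) :
    alb ≫ h = g * (toUnit X ≫ x₀ ≫ g)⁻¹ := by
  have h0 : x₀ ≫ g = (x₁ ≫ alb ≫ h)⁻¹ := by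
    rw [← hh, MonObj.mul_comp, GrpObj.inv_comp, comp_mul, ← Category.assoc, halb, IsMonHom.one_hom,
      GrpObj.comp_inv, Category.assoc, pt_toUnit, one_eq_one, _root_.one_mul, Category.assoc]
  rw [h0, GrpObj.comp_inv, _root_.inv_inv, ← hh, MonObj.mul_comp, GrpObj.inv_comp, Category.assoc, Category.assoc,
    inv_mul_cancel_right]

/-- the morphism `g * (const g(x₀))⁻¹` is pointed -/
lemma pt_mul_const_inv {X B : C} [GrpObj B] (x₀ : 𝟙_ C ⟶ X) (g : X ⟶ B) :
    x₀ ≫ (g * (toUnit X ≫ x₀ ≫ g)⁻¹) = η[B] := by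
  rw [comp_mul, GrpObj.comp_inv, pt_toUnit, mul_inv_cancel, one_eq_one]

end K514.Formal
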