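import Groth.Agent.AbVar.K514.GenTop
import Groth.Agent.AbVar.K514.Words
import Groth.Agent.AbVar.K528.Gen

/-!
# The abelian subvariety generated by a morphism, over an algebraically closed field

`K514.GenAlg.exists_max_word`: for `g : X ⟶ B`, `B` a proper group scheme over an algebraically closed field, the
closed irreducible subsets swept out by the words in `g` through the unit have a largest element, an abelian
subvariety.
-/

set_option autoImplicit false
universe u

open CategoryTheory Limits MonoidalCategory CartesianMonoidalCategory MonObj GrpObj AlgebraicGeometry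

namespace K514.GenAlg

open Groth.Agent.Books.AlgPts Groth.Agent.Books.AlgPtsGen Groth.Agent.Books.AlgPtsGrp K514.Words

variable {k : Type u} [Field k]

/-- closed irreducible subsets swept out by words through the unit -/
def IsW {X B : Over (Spec (CommRingCat.of k))} [GrpObj B] (g : X ⟶ B) (Z : Set B.left) : Prop :=
  ∃ (Y : Over (Spec (CommRingCat.of k))) (b : Y ⟶ B) (y : 𝟙_ (Over (Spec (CommRingCat.of k))) ⟶ Y),
    IsProper Y.hom ∧ IsIntegral Y.left ∧ b ∈ W g Y ∧ y ≫ b = 1 ∧ Set.range b.left = Z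

variable {X B : Over (Spec (CommRingCat.of k))} [GrpObj B] {g : X ⟶ B}

lemma IsW.isClosed [IsProper B.hom] {Z : Set B.left} (h : IsW g Z) : IsClosed Z := by
  obtain ⟨Y, b, y, hY, -, -, -, rfl⟩ := h
  have h1 : IsProper b.left := by
    have : IsProper (b.left ≫ B.hom) := by rw [Over.w]; infer_instance
    exact .of_comp _ B.hom
  exact b.left.isClosedMap.isClosed_range

lemma IsW.isIrreducible {Z : Set B.left} (h : IsW g Z) : IsIrreducible Z := by
  obtain ⟨Y, b, y, -, hY, -, -, rfl⟩ := h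
  have := (IrreducibleSpace.isIrreducible_univ Y.left).image _ b.left.continuous.continuousOn
  rwa [Set.image_univ] at this

lemma IsW.one : IsW g (Set.range (1 : 𝟙_ (Over (Spec (CommRingCat.of k))) ⟶ B).left) :=
  ⟨𝟙_ _, 1, 𝟙 _, (inferInstance : IsProper (𝟙 (Spec (CommRingCat.of k)))),
    (inferInstance : IsIntegral (Spec (CommRingCat.of k))), one_mem _, Category.id_comp _, rfl⟩

omit [GrpObj B] in
lemma range_subset_of_comp {Y Y' : Over (Spec (CommRingCat.of k))} (s : Y' ⟶ Y) (b : Y ⟶ B) :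
    Set.range (s ≫ b).left ⊆ Set.range b.left := by
  rintro _ ⟨z, rfl⟩
  exact ⟨s.left z, by rw [← Scheme.Hom.comp_apply, ← Over.comp_left]⟩

variable [IsAlgClosed k]

theorem IsW.mul {Y Y' : Over (Spec (CommRingCat.of k))} (b : Y ⟶ B) (b' : Y' ⟶ B)
    (y : 𝟙_ (Over (Spec (CommRingCat.of k))) ⟶ Y) (y' : 𝟙_ (Over (Spec (CommRingCat.of k))) ⟶ Y')
    [IsProper Y.hom] [IsIntegral Y.left] [IsProper Y'.hom] [IsIntegral Y'.left] (hb : b ∈ W g Y) (hb' : b' ∈ W g Y')
    (hy : y ≫ b = 1) (hy' : y' ≫ b' = 1) :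
    IsW g (Set.range ((fst Y Y' ≫ b) * (snd Y Y' ≫ b')).left) := by
  refine ⟨Y ⊗ Y', _, lift y y', K528.RedClosed.isProper_tensor Y Y', K528.Irr.isIntegral_tensor Y Y',
    mul_mem (comp_mem _ hb) (comp_mem _ hb'), ?_, rfl⟩
  rw [MonObj.comp_mul, lift_fst_assoc, lift_snd_assoc, hy, hy', _root_.one_mul]

/-- The largest closed irreducible subset swept out by words is an abelian subvariety. -/
theorem exists_max_word [IsProper B.hom] (g : X ⟶ B) :
    ∃ (C : Over (Spec (CommRingCat.of k))) (_ : GrpObj C) (i : C ⟶ B), IsMonHom i ∧ IsClosedImmersion i.left ∧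
      IsIntegral C.left ∧ IsProper C.hom ∧ IsW g (Set.range i.left) ∧ ∀ Z, IsW g Z → Z ⊆ Set.range i.left := by
  obtain ⟨d, hd⟩ := Groth.Agent.EtpbcA.CdFinDim.exists_dim_le B.hom
  obtain ⟨Z, hZ, hmax⟩ := GenTop.exists_max_irr d hd (IsW g) (fun Z h => h.isClosed) (fun Z h => h.isIrreducible)
    ⟨_, IsW.one⟩ (by
      rintro Z Z' ⟨Y, b, y, h1, h2, h3, h4, rfl⟩ ⟨Y', b', y', h1', h2', h3', h4', rfl⟩
      refine ⟨_, IsW.mul b b' y y' h3 h3' h4 h4', ?_, ?_⟩
      · have : b = lift (𝟙 Y) (toUnit Y ≫ y') ≫ ((fst Y Y' ≫ b) * (snd Y Y' ≫ b')) := by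
          rw [MonObj.comp_mul, lift_fst_assoc, lift_snd_assoc, Category.assoc, h4', MonObj.comp_one,
            _root_.mul_one, Category.id_comp]
        conv_lhs => rw [this]
        exact range_subset_of_comp _ _
      · have : b' = lift (toUnit Y' ≫ y) (𝟙 Y') ≫ ((fst Y Y' ≫ b) * (snd Y Y' ≫ b')) := by
          rw [MonObj.comp_mul, lift_fst_assoc, lift_snd_assoc, Category.assoc, h4, MonObj.comp_one,
            _root_.one_mul, Category.id_comp]
        conv_lhs => rw [this]
        exact range_subset_of_comp _ _)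
  have hcl := hZ.isClosed
  have hirr := hZ.isIrreducible
  obtain ⟨Y, b, y, h1, h2, h3, h4, h5⟩ := hZ
  let H : Subgroup (𝟙_ (Over (Spec (CommRingCat.of k))) ⟶ B) :=
    { carrier := {x | pt x ∈ Z}
      mul_mem' := by
        intro x x' hx hx'
        rw [Set.mem_ofPred_eq, ← h5] at hx hx'
        obtain ⟨z, hz⟩ := exists_comp_eq_of_pt_mem_range b x hx
        obtain ⟨z', hz'⟩ := exists_comp_eq_of_pt_mem_range b x' hx'
        refine hmax _ (IsW.mul b b y y h3 h3 h4 h4) ?_
        have : x * x' = lift z z' ≫ ((fst Y Y ≫ b) * (snd Y Y ≫ b)) := by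
          rw [MonObj.comp_mul, lift_fst_assoc, lift_snd_assoc, hz, hz']
        rw [this, pt_comp]
        exact ⟨_, rfl⟩
      one_mem' := by
        show pt _ ∈ Z
        rw [← h4, pt_comp, ← h5]; exact ⟨_, rfl⟩
      inv_mem' := by
        intro x hx
        rw [Set.mem_ofPred_eq, ← h5] at hx
        obtain ⟨z, hz⟩ := exists_comp_eq_of_pt_mem_range b x hx
        refine hmax _ (⟨Y, b⁻¹, y, h1, h2, inv_mem h3, ?_, rfl⟩) ?_
        · rw [GrpObj.comp_inv, h4, inv_one]
        · have : x⁻¹ = z ≫ b⁻¹ := by rw [GrpObj.comp_inv, hz]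
          rw [this, pt_comp]
          exact ⟨_, rfl⟩ }
  obtain ⟨D, i, hi, hDred, hDirr, hDr⟩ := K528.Irr.exists_irrSub B Z hcl hirr
  have hDp : IsProper D.hom := by rw [← Over.w i]; infer_instance
  have hDi : IsIntegral D.left := isIntegral_of_irreducibleSpace_of_isReduced D.left
  have hDD : IsReduced (D ⊗ D).left := K528.RedClosed.isReduced_tensor D D
  obtain ⟨inst, hmon⟩ := exists_grpObj_of_points i H (fun x => by rw [hDr]; rfl)
  exact ⟨D, inst, i, hmon, hi, hDi, hDp, ⟨Y, b, y, h1, h2, h3, h4, by rw [h5, hDr]⟩, fun Z' hZ' => by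
    rw [hDr]; exact hmax Z' hZ'⟩

end K514.GenAlg
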