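import Mathlib.Topology.NoetherianSpace
import Mathlib.Topology.KrullDimension
import Mathlib.Topology.Sober

/-!
# Two topological lemmas

* `K514.GenTop.exists_max_irr`: a directed family of irreducible closed subsets of a finite-dimensional space has a
  largest element.
* `K514.GenTop.eq_of_components`: a map on a connected Noetherian space constant on the irreducible components is
  constant.
-/

set_option autoImplicit false

namespace K514.GenTop

/-- A directed family of irreducible closed subsets of a finite-dimensional space has a largest element. -/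
theorem exists_max_irr {X : Type*} [TopologicalSpace X] (d : ℕ) (hd : topologicalKrullDim X ≤ d)
    (P : Set X → Prop) (hcl : ∀ Z, P Z → IsClosed Z) (hirr : ∀ Z, P Z → IsIrreducible Z)
    (hne : ∃ Z, P Z) (hdir : ∀ Z Z', P Z → P Z' → ∃ Z'', P Z'' ∧ Z ⊆ Z'' ∧ Z' ⊆ Z'') :
    ∃ Z, P Z ∧ ∀ Z', P Z' → Z' ⊆ Z := by
  let W : {Z : Set X // P Z} → TopologicalSpace.IrreducibleCloseds X := fun Z => ⟨Z.1, hirr _ Z.2, hcl _ Z.2⟩
  have hle : ∀ Z, Order.height (W Z) ≤ (d : ℕ∞) := fun Z => by
    have h1 : ((Order.height (W Z) : ℕ∞) : WithBot ℕ∞) ≤ ((d : ℕ∞) : WithBot ℕ∞) :=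
      (Order.height_le_krullDim (W Z)).trans hd
    exact_mod_cast h1
  have hfin : ∀ Z, Order.height (W Z) < ⊤ := fun Z => (hle Z).trans_lt (ENat.natCast_lt_top d)
  let S : Set ℕ := Set.range fun Z => (Order.height (W Z)).toNat
  have hS : BddAbove S := ⟨d, by
    rintro _ ⟨Z, rfl⟩
    exact ENat.toNat_le_of_le_natCast (hle Z)⟩
  obtain ⟨Z0, hZ0⟩ := hne
  obtain ⟨Z, hZ⟩ := Nat.sSup_mem (s := S) ⟨_, ⟨Z0, hZ0⟩, rfl⟩ hS
  refine ⟨Z.1, Z.2, fun Z' hZ' => ?_⟩
  obtain ⟨Z'', h, h1, h2⟩ := hdir Z.1 Z' Z.2 hZ'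
  by_cases heq : Z.1 = Z''
  · rw [heq]; exact h2
  exfalso
  have hlt : W Z < W ⟨Z'', h⟩ :=
    lt_of_le_of_ne h1 fun h => heq (congrArg TopologicalSpace.IrreducibleCloseds.carrier h)
  have h1 := Order.height_strictMono hlt (hfin Z)
  have h2 : (Order.height (W Z)).toNat < (Order.height (W ⟨Z'', h⟩)).toNat := by
    rw [← ENat.natCast_toNat (hfin Z).ne, ← ENat.natCast_toNat (hfin ⟨Z'', h⟩).ne] at h1
    exact_mod_cast h1
  have h3 : (Order.height (W ⟨Z'', h⟩)).toNat ≤ sSup S := le_csSup hS ⟨_, rfl⟩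
  have h4 : (Order.height (W Z)).toNat = sSup S := hZ
  omega

/-- A map on a connected Noetherian space which is constant on the irreducible components is constant. -/
theorem eq_of_components {X Y : Type*} [TopologicalSpace X] [TopologicalSpace.NoetherianSpace X]
    [PreconnectedSpace X] (f : X → Y) (h : ∀ Z ∈ irreducibleComponents X, ∀ x ∈ Z, ∀ y ∈ Z, f x = f y) (x y : X) :
    f x = f y := by
  have hcl : ∀ T : Set Y, IsClosed (f ⁻¹' T) := by
    intro T
    have h1 : f ⁻¹' T = ⋃₀ {Z ∈ irreducibleComponents X | ∃ z ∈ Z, f z ∈ T} := by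
      ext z
      rw [Set.mem_sUnion]
      constructor
      · intro hz
        exact ⟨irreducibleComponent z, ⟨irreducibleComponent_mem_irreducibleComponents z, z,
          mem_irreducibleComponent, hz⟩, mem_irreducibleComponent⟩
      · rintro ⟨Z, ⟨hZ, w, hw, hwT⟩, hz⟩
        rw [Set.mem_preimage, h Z hZ z hz w hw]
        exact hwT
    rw [h1]
    rw [Set.sUnion_eq_biUnion]
    exact Set.Finite.isClosed_biUnion
      (TopologicalSpace.NoetherianSpace.finite_irreducibleComponents.subset (Set.sep_subset _ _))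
      fun Z hZ => isClosed_of_mem_irreducibleComponents Z hZ.1
  have h2 : IsClopen (f ⁻¹' {f x}) := ⟨hcl _, by
    rw [← isClosed_compl_iff, ← Set.preimage_compl]; exact hcl _⟩
  rcases isClopen_iff.1 h2 with h3 | h3
  · have : x ∈ f ⁻¹' {f x} := rfl
    rw [h3] at this
    exact this.elim
  · have : y ∈ f ⁻¹' {f x} := by rw [h3]; trivial
    exact this.symm

end K514.GenTop
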