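import Groth.Agent.Sga3C.ClosedSub
import Groth.Agent.Books.AlgPtsGrp
import Groth.Agent.S1628
import Groth.Agent.Fdesc.GeomConn

/-!
# The identity component as a subgroup

`K514.PicComp.exists_grpObj`: a smooth closed subscheme of a group scheme over a field, with underlying set the
connected component of the identity, is a subgroup scheme.
-/

set_option autoImplicit false
universe u

open CategoryTheory Limits MonoidalCategory CartesianMonoidalCategory MonObj GrpObj AlgebraicGeometry

namespace K514.PicComp

variable {k : Type u} [Field k]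

theorem geometricallyConnected_of_point {X : Scheme.{u}} [ConnectedSpace X]
    (f : X ⟶ Spec (CommRingCat.of k)) (e : Spec (CommRingCat.of k) ⟶ X) (he : e ≫ f = 𝟙 _) :
    GeometricallyConnected f := by
  have : GeometricallyConnected (e ≫ f) := by
    rw [he]
    refine ⟨fun K _ y Z fst snd h ↦ ?_⟩
    have : IsIso snd := h.isIso_snd_of_isIso
    exact (asIso snd).hom.homeomorph.connectedSpace_iff.mpr inferInstance
  exact Groth.Agent.Fdesc.GeomConn.geometricallyConnected_of_hom f e

theorem isReduced_of_smooth {X : Scheme.{u}} (f : X ⟶ Spec (CommRingCat.of k)) [Smooth f] : IsReduced X := by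
  have := Groth.Agent.S1628.isReduced_stalk_of_smooth f
  exact isReduced_of_isReduced_stalk X

/-- A subset of the connected component -/
theorem range_subset {T G : Over (Spec (CommRingCat.of k))} [ConnectedSpace T.left] (m : T ⟶ G)
    (t : 𝟙_ (Over (Spec (CommRingCat.of k))) ⟶ T) (e : 𝟙_ (Over (Spec (CommRingCat.of k))) ⟶ G) (h : t ≫ m = e) :
    Set.range m.left ⊆ connectedComponent (e.left (IsLocalRing.closedPoint k)) := by
  refine IsPreconnected.subset_connectedComponent (isPreconnected_range m.left.continuous) ?_
  refine ⟨t.left (IsLocalRing.closedPoint k), ?_⟩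
  rw [← Scheme.Hom.comp_apply, ← Over.comp_left, h]

/-- A smooth closed subscheme of a group scheme over a field, with underlying set the connected component of the
identity, is a subgroup scheme. -/
theorem exists_grpObj {G B : Over (Spec (CommRingCat.of k))} [GrpObj G] (i : B ⟶ G) [IsClosedImmersion i.left]
    [Smooth B.hom] (h : Set.range i.left = connectedComponent (η[G].left (IsLocalRing.closedPoint k))) :
    ConnectedSpace B.left ∧ ∃ (_ : GrpObj B), IsMonHom i := by
  have hmono : Mono i := Groth.Agent.Books.AlgPtsGrp.mono_of_isClosedImmersion i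
  have hB : IsReduced B.left := isReduced_of_smooth B.hom
  have h1 : IsReduced (𝟙_ (Over (Spec (CommRingCat.of k)))).left := inferInstanceAs (IsReduced (Spec (CommRingCat.of k)))
  have h2 : ConnectedSpace (𝟙_ (Over (Spec (CommRingCat.of k)))).left :=
    inferInstanceAs (ConnectedSpace (Spec (CommRingCat.of k)))
  obtain ⟨e, he⟩ : ∃ e : 𝟙_ (Over (Spec (CommRingCat.of k))) ⟶ B, e ≫ i = η[G] := by
    refine Groth.Agent.Books.AlgPtsGrp.exists_lift i η[G] ?_
    rw [h]
    exact range_subset η[G] (𝟙 _) η[G] (Category.id_comp _)
  have hcB : ConnectedSpace B.left := by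
    have h3 : _root_.IsConnected (Set.range i.left) := by rw [h]; exact isConnected_connectedComponent
    rw [← Set.image_univ] at h3
    have h4 := h3.preimage_of_isClosedMap i.left.isClosedEmbedding.injective i.left.isClosedEmbedding.isClosedMap
      (by rw [Set.image_univ])
    rw [Set.preimage_image_eq _ i.left.isClosedEmbedding.injective] at h4
    exact connectedSpace_iff_univ.2 h4
  have hcg : GeometricallyConnected B.hom := geometricallyConnected_of_point B.hom e.left (Over.w e)
  have hBB : Smooth (B ⊗ B).hom := by
    have h5 : (B ⊗ B).hom = (fst B B).left ≫ B.hom := (Over.w _).symm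
    have h6 : Smooth (fst B B).left := inferInstanceAs (Smooth (pullback.fst B.hom B.hom))
    rw [h5]
    infer_instance
  have hBBr : IsReduced (B ⊗ B).left := isReduced_of_smooth (B ⊗ B).hom
  have hBBc : ConnectedSpace (B ⊗ B).left := inferInstanceAs (ConnectedSpace ↥(pullback B.hom B.hom))
  refine ⟨hcB, Groth.Agent.Sga3C.ClosedSub.exists_grpObj_of_mono i ⟨e, he⟩ ?_ ?_⟩
  · refine Groth.Agent.Books.AlgPtsGrp.exists_lift i _ ?_
    rw [h]
    refine range_subset _ (lift e e) _ ?_
    rw [lift_map_assoc, he]
    have h7 : (1 : 𝟙_ (Over (Spec (CommRingCat.of k))) ⟶ G) = η[G] := by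
      rw [Hom.one_def, toUnit_unique (toUnit _) (𝟙 _), Category.id_comp]
    rw [← h7, ← Hom.mul_def, _root_.mul_one]
  · refine Groth.Agent.Books.AlgPtsGrp.exists_lift i _ ?_
    rw [h]
    refine range_subset _ e _ ?_
    rw [← Category.assoc, he]
    simp

end K514.PicComp
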