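import Groth.Agent.AbVar.K514.RigOver
import Groth.Agent.AbVar.K514.PicComp
import Groth.Agent.Pic13.H965.RelGrp
import Groth.Agent.GIT.K686.AbH0
import Groth.Agent.VarietyA.RegSmoothSch
import Groth.Agent.S0558
import Groth.Agent.CurvesC.RegNormal
import Groth.Agent.S4289
import Groth.Prelude.Def_Pi1

/-!
# Correspondences between a scheme without abelian quotients and a smooth proper scheme
-/

set_option autoImplicit false
set_option maxHeartbeats 400000
universe u

open CategoryTheory Limits MonoidalCategory CartesianMonoidalCategory MonObj GrpObj AlgebraicGeometry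

namespace K514.PicConst

open Groth.Agent Groth.Agent.Grpsch Groth.Agent.Grpsch.PicGrp Groth.Agent.Grpsch.Cube Groth.Agent.Fga.RigGrp
open Groth.Agent.Pic13.H965.RelGrp K514.RigOver

/-- The statement of S5688. -/
def HRed : Prop := ∀ (k : Type u) [Field k] (X : Scheme.{u})
    (f : X ⟶ Spec (CommRingCat.of k)) [IsProper f]
    (_ : ∀ (k' : Type u) [Field k'] [Algebra k k'], Module.Finite k k' →
      Pi1.IsNormalScheme (pullback f (Spec.map (CommRingCat.ofHom (algebraMap k k')))))
    (P : Over (Spec (CommRingCat.of k))) [LocallyOfFiniteType P.hom]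
    (φ : ∀ T : Over (Spec (CommRingCat.of k)), PicF.Cl (PicF.XT f T) → (T ⟶ P)) (_ : PicRel.IsRelPic f P φ)
    (pt : ↥(Spec (CommRingCat.of k))),
    ∃ (A : Scheme.{u}) (i : A ⟶ P.left), IsClosedImmersion i ∧ Smooth (i ≫ P.hom) ∧ IsProper (i ≫ P.hom) ∧
      Set.range i.base = connectedComponent ((φ (Over.mk (𝟙 _)) (PicF.cl (Coh.structureModule _))).left.base pt)

/-- The statement of S5681. -/
def HOpen : Prop := ∀ (k : Type u) [Field k] (X : Scheme.{u})
    (f : X ⟶ Spec (CommRingCat.of k)) [IsProper f]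
    (_ : ∀ (k' : Type u) [Field k'] [Algebra k k'], Module.Finite k k' →
      Pi1.IsNormalScheme (pullback f (Spec.map (CommRingCat.ofHom (algebraMap k k')))))
    (P : Over (Spec (CommRingCat.of k))) [LocallyOfFiniteType P.hom]
    (φ : ∀ T : Over (Spec (CommRingCat.of k)), PicF.Cl (PicF.XT f T) → (T ⟶ P)) (_ : PicRel.IsRelPic f P φ)
    (pt : ↥(Spec (CommRingCat.of k))),
    ∃ U : P.left.Opens, (U : Set ↥P.left) =
        connectedComponent ((φ (Over.mk (𝟙 _)) (PicF.cl (Coh.structureModule _))).left.base pt) ∧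
      IsProper (U.ι ≫ P.hom)

variable {k : Type u} [Field k]

/-- A smooth scheme over a field is normal. -/
theorem isNormalScheme_of_smooth {X : Scheme.{u}} (f : X ⟶ Spec (CommRingCat.of k)) [Smooth f] :
    Pi1.IsNormalScheme X := by
  intro x
  have : IsRegularLocalRing (X.presheaf.stalk x) :=
    Groth.Agent.VarietyA.RegSmoothSch.isRegularLocalRing_stalk_of_mem_smoothLocus f x
      (by rw [f.smoothLocus_eq_top]; trivial)
  exact ⟨Groth.Agent.S0558.result _, Groth.Agent.CurvesC.RegNormal.isIntegrallyClosed _⟩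

/-- A correspondence between `X` (without nonconstant maps to abelian varieties) and a smooth proper scheme `A`,
trivial along `x₀` and `a₀`, is trivial. -/
theorem eq_one (H : HRed.{u}) {X A : Over (Spec (CommRingCat.of k))}
    (x₀ : 𝟙_ (Over (Spec (CommRingCat.of k))) ⟶ X) [IsReduced X.left] [ConnectedSpace X.left]
    (halb0 : ∀ (B : Over (Spec (CommRingCat.of k))) [GrpObj B] [IsProper B.hom] [GeometricallyReduced B.hom]
      [ConnectedSpace ↥B.left] (g : X ⟶ B), x₀ ≫ g = η[B] → g = toUnit X ≫ η[B])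
    [IsProper A.hom] [Smooth A.hom] [ConnectedSpace A.left] (a₀ : 𝟙_ (Over (Spec (CommRingCat.of k))) ⟶ A)
    (c : Pic (X ⊗ A).left) (hc : pl (lift (toUnit A ≫ x₀) (𝟙 A)) c = 1)
    (hc' : pl (lift (𝟙 X) (toUnit X ≫ a₀)) c = 1) : c = 1 := by
  let hAo : A.left.Over (Spec (CommRingCat.of k)) := ⟨A.hom⟩
  have hAp : IsProper (A.left ↘ Spec (CommRingCat.of k)) := inferInstanceAs (IsProper A.hom)
  obtain ⟨Q, ⟨φ, hQ⟩, hQs, hQl⟩ : ∃ Q : Over (Spec (CommRingCat.of k)),
      PicRel.RepresentedBy A.hom Q ∧ IsSeparated Q.hom ∧ LocallyOfFiniteType Q.hom := Groth.Agent.S4289.result k A.left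
  have hAc : GeometricallyConnected A.hom := PicComp.geometricallyConnected_of_point A.hom a₀.left (Over.w a₀)
  have hAr : GeometricallyReduced A.hom := by
    refine ⟨fun K _ y Z fst snd h => ?_⟩
    have h1 : Smooth snd := MorphismProperty.of_isPullback h ‹_›
    exact PicComp.isReduced_of_smooth snd
  have hA1 : IsIso A.hom.appTop := (ConcreteCategory.isIso_iff_bijective _).2 (K686.AbH0.bijective_appTop A.hom)
  obtain ⟨hGQ, hcm, hcm1, -⟩ := exists_grpObj hQ
  have hη : cm φ (1 : Pic (PicF.XT A.hom (𝟙_ (Over (Spec (CommRingCat.of k)))))) = η[Q] := by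
    rw [hcm1, Hom.one_def, toUnit_unique (toUnit _) (𝟙 _), Category.id_comp]
  obtain ⟨B, i, hi, hsm, hpr, hr⟩ := H k A.left A.hom (fun k' _ _ _ => isNormalScheme_of_smooth
    (pullback.snd A.hom (Spec.map (CommRingCat.ofHom (algebraMap k k'))))) Q φ hQ (IsLocalRing.closedPoint k)
  let B' : Over (Spec (CommRingCat.of k)) := Over.mk (i ≫ Q.hom)
  let i' : B' ⟶ Q := Over.homMk i
  have hi' : IsClosedImmersion i'.left := hi
  have hsm' : Smooth B'.hom := hsm
  have hpr' : IsProper B'.hom := hpr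
  have hmono : Mono i' := Groth.Agent.Books.AlgPtsGrp.mono_of_isClosedImmersion i'
  have hr' : Set.range i'.left = connectedComponent (η[Q].left (IsLocalRing.closedPoint k)) := by
    refine hr.trans ?_
    rw [← hη]
    rfl
  obtain ⟨hcB, hGB, hmon⟩ := PicComp.exists_grpObj i' hr'
  have hBr : GeometricallyReduced B'.hom := by
    refine ⟨fun K _ y Z fst snd h => ?_⟩
    have h1 : Smooth snd := MorphismProperty.of_isPullback h ‹_›
    exact PicComp.isReduced_of_smooth snd
  -- the class on `A ⊗ X`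
  let cs : Pic (PicF.XT A.hom X) := pl (β_ A X).hom c
  let g : X ⟶ Q := cm φ cs
  have hx₀ : x₀ ≫ g = η[Q] := by
    rw [← hη, ← cm_pu hQ]
    congr 1
    change pull (PicF.XTmap A.hom x₀) cs = 1
    rw [← left_whisker]
    change pl (A ◁ x₀) (pl (β_ A X).hom c) = 1
    rw [← pl_comp]
    have h1 : A ◁ x₀ ≫ (β_ A X).hom = (ρ_ A).hom ≫ lift (toUnit A ≫ x₀) (𝟙 A) := by
      apply CartesianMonoidalCategory.hom_ext
      · simp only [Category.assoc, lift_fst, braiding_hom_fst, whiskerLeft_snd]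
        rw [← Category.assoc]
        congr 1
        exact toUnit_unique _ _
      · simp
    rw [h1, pl_comp, hc, map_one]
  obtain ⟨g', hg'⟩ : ∃ g' : X ⟶ B', g' ≫ i' = g := by
    refine Groth.Agent.Books.AlgPtsGrp.exists_lift i' g ?_
    rw [hr']
    exact PicComp.range_subset g x₀ _ hx₀
  have hg'' : x₀ ≫ g' = η[B'] := by
    rw [← cancel_mono i', Category.assoc, hg', hx₀, IsMonHom.one_hom]
  have hconst := halb0 B' g' hg''
  have hg1 : g = 1 := by
    rw [← hg', hconst, Category.assoc, IsMonHom.one_hom, ← Hom.one_def]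
  have hcs : cs = 1 := by
    refine eq_one_of_phi hA1 a₀ φ hQ cs ?_ ?_
    · rw [mem_Rg, ← left_secT]
      change pl (lift (toUnit X ≫ a₀) (𝟙 X)) (pl (β_ A X).hom c) = 1
      rw [← pl_comp]
      have h1 : lift (toUnit X ≫ a₀) (𝟙 X) ≫ (β_ A X).hom = lift (𝟙 X) (toUnit X ≫ a₀) := by
        apply CartesianMonoidalCategory.hom_ext <;> simp
      rw [h1, hc']
    · change g = cm φ 1
      rw [hg1, hcm1]
  have h2 : c = pl (β_ A X).inv cs := by
    change c = pl (β_ A X).inv (pl (β_ A X).hom c)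
    rw [← pl_comp, Iso.inv_hom_id]
    exact (pull_id c).symm
  rw [h2, hcs, map_one]

end K514.PicConst
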