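import Mathlib.AlgebraicGeometry.Morphisms.Proper

/-!
# Morphisms with `O_Y → r_* O_X` injective are epimorphisms

`K514.Stein.cancel_left`: if `r : X ⟶ Y` is surjective and injective on sections, then `r ≫ a = r ≫ b → a = b`.
`K514.Stein.surjective_of_injective_app`: closed image and injectivity on sections give surjectivity.
-/

set_option autoImplicit false
universe u

open CategoryTheory Limits AlgebraicGeometry TopologicalSpace Opposite

namespace K514.Stein

variable {X Y Z : Scheme.{u}}

/-- closed image and injectivity on sections give surjectivity -/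
theorem surjective_of_injective_app (r : X ⟶ Y) (hcl : IsClosed (Set.range r))
    (hr : ∀ U : Y.Opens, Function.Injective (r.app U).hom) : Surjective r := by
  let V : Y.Opens := ⟨(Set.range r)ᶜ, hcl.isOpen_compl⟩
  have hV : r ⁻¹ᵁ V = ⊥ := by
    ext x
    simp [V]
  have h1 : Subsingleton Γ(Y, V) := by
    refine ⟨fun a b => hr V ?_⟩
    have : Subsingleton Γ(X, r ⁻¹ᵁ V) := by rw [hV]; infer_instance
    exact Subsingleton.elim _ _
  refine ⟨fun y => ?_⟩
  by_contra hy
  have hyV : y ∈ V := hy
  have h2 : (Y.presheaf.germ V y hyV).hom 1 = (Y.presheaf.germ V y hyV).hom 0 := by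
    rw [Subsingleton.elim (1 : Γ(Y, V)) 0]
  rw [map_one, map_zero] at h2
  exact one_ne_zero h2

/-- a surjective morphism which is injective on sections is an epimorphism -/
theorem cancel_left (r : X ⟶ Y) [Surjective r] (hr : ∀ U : Y.Opens, Function.Injective (r.app U).hom)
    {a b : Y ⟶ Z} (h : r ≫ a = r ≫ b) : a = b := by
  have hb : a.base = b.base := by
    ext y
    obtain ⟨x, rfl⟩ := r.surjective y
    have := congrArg (fun f => f.base x) h
    simpa using this
  have key : ∀ (U : Z.Opens) (V : Y.Opens) (e : V ≤ a ⁻¹ᵁ U) (e' : V ≤ b ⁻¹ᵁ U),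
      a.appLE U V e = b.appLE U V e' := by
    intro U V e e'
    have h1 : a.appLE U V e ≫ r.app V = b.appLE U V e' ≫ r.app V := by
      rw [Scheme.Hom.app_eq_appLE, Scheme.Hom.appLE_comp_appLE, Scheme.Hom.appLE_comp_appLE]
      simp only [h]
    ext s
    exact hr V (congrArg (fun φ => φ.hom s) h1)
  refine Scheme.Hom.ext hb fun U => ?_
  rw [Scheme.Hom.app_eq_appLE, Scheme.Hom.app_eq_appLE, Scheme.Hom.appLE_map]
  exact key _ _ _ _

end K514.Stein
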